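import Groth.Agent.AVTate.Cyclic
import Mathlib.Algebra.Module.ZMod
import Mathlib.Algebra.Field.ZMod
import Mathlib.Algebra.Algebra.ZMod
import Mathlib.Data.ZMod.QuotientGroup
import Mathlib.LinearAlgebra.Dimension.OrzechProperty
import Mathlib.FieldTheory.Finiteness
import Mathlib.LinearAlgebra.FiniteDimensional.Basic
import Mathlib.GroupTheory.Perm.Cycle.Type
import Mathlib.LinearAlgebra.Eigenspace.Zero

/-!
# Counting intertwiners into a module with cyclic torsion
-/

set_option autoImplicit false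
set_option linter.unusedSectionVars false

open Polynomial

noncomputable section

namespace Groth.Agent.AVTate.PrimeField

/-- The intertwiners into a cyclic space are at most as many as the elements of the source. -/
theorem natCard_intertwiners_le {F : Type*} [Field F] [Finite F] {V X : Type*} [AddCommGroup V] [Module F V]
    [FiniteDimensional F V] [AddCommGroup X] [Module F X] [Finite X] (Φ : Module.End F V) (Φ' : Module.End F X)
    (hcyc : ∃ v, Submodule.span F (Set.range fun i : Fin (Module.finrank F V) => (Φ ^ (i : ℕ)) v) = ⊤) :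
    Finite {u : X →ₗ[F] V // ∀ t, u (Φ' t) = Φ (u t)} ∧
      Nat.card {u : X →ₗ[F] V // ∀ t, u (Φ' t) = Φ (u t)} ≤ Nat.card X := by
  obtain ⟨v, hv⟩ := hcyc
  let e := basisOfTopLeSpanOfCardEqFinrank (fun i : Fin (Module.finrank F V) => (Φ ^ (i : ℕ)) v) hv.ge
    (Fintype.card_fin _)
  have he : ∀ i, e i = (Φ ^ (i : ℕ)) v := fun i => by simp [e]
  let F' : {u : X →ₗ[F] V // ∀ t, u (Φ' t) = Φ (u t)} → Module.Dual F X := fun u => lastCoord e ∘ₗ u.1
  have hF : Function.Injective F' := fun u w h => Subtype.ext (by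
    have h' : lastCoord e ∘ₗ u.1 = lastCoord e ∘ₗ w.1 := h
    rw [← adjoint_lastCoord Φ e he Φ' u.1 u.2, h', adjoint_lastCoord Φ e he Φ' w.1 w.2])
  haveI : Module.Finite F X := Module.Finite.of_finite
  haveI : Finite (Module.Dual F X) := Module.finite_of_finite F
  refine ⟨Finite.of_injective F' hF, (Nat.card_le_card_of_injective F' hF).trans_eq ?_⟩
  rw [Module.natCard_eq_pow_finrank (K := F) (V := Module.Dual F X), Module.natCard_eq_pow_finrank (K := F) (V := X),
    Subspace.dual_finrank_eq]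

variable {W : Type*} [AddCommGroup W] (fW : W →+ W)

/-- The intertwiners into `W` are at most as many as the elements of the source. -/
def Bdd (X : Type*) [AddCommGroup X] (fX : X →+ X) : Prop :=
  Finite {u : X →+ W // ∀ x, u (fX x) = fW (u x)} ∧ Nat.card {u : X →+ W // ∀ x, u (fX x) = fW (u x)} ≤ Nat.card X

/-- The torsion killed by a prime is a cyclic space. -/
def CyclicTors (l : ℕ) [Fact l.Prime] : Prop :=
  ∃ (V : AddSubgroup W) (_ : Module (ZMod l) V), (∀ w, w ∈ V ↔ l • w = 0) ∧ ∃ (Φ : Module.End (ZMod l) V),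
    Module.Finite (ZMod l) V ∧ (∀ v : V, (Φ v : W) = fW v) ∧
      ∃ v, Submodule.span (ZMod l) (Set.range fun i : Fin (Module.finrank (ZMod l) V) => (Φ ^ (i : ℕ)) v) = ⊤

theorem bdd_of_embedding {F : Type*} [Field F] [Finite F] {V X : Type*} [AddCommGroup V] [Module F V]
    [FiniteDimensional F V] [AddCommGroup X] [Module F X] [Finite X] (Φ : Module.End F V) (Φ' : Module.End F X)
    (hcyc : ∃ v, Submodule.span F (Set.range fun i : Fin (Module.finrank F V) => (Φ ^ (i : ℕ)) v) = ⊤)
    (ι : V →+ W) (hι : Function.Injective ι) (hΦ : ∀ v, ι (Φ v) = fW (ι v))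
    (hu : ∀ u : X →+ W, ∃ w : X →ₗ[F] V, ∀ x, ι (w x) = u x) : Bdd fW X Φ'.toAddMonoidHom := by
  obtain ⟨h1, h2⟩ := natCard_intertwiners_le Φ Φ' hcyc
  haveI := h1
  choose w hw using hu
  let G : {u : X →+ W // ∀ x, u (Φ'.toAddMonoidHom x) = fW (u x)} → {u : X →ₗ[F] V // ∀ t, u (Φ' t) = Φ (u t)} :=
    fun u => ⟨w u.1, fun x => hι (by rw [hw, hΦ, hw]; exact u.2 x)⟩
  have hG : Function.Injective G := fun a c h => Subtype.ext (AddMonoidHom.ext fun x => by
    rw [← hw a.1, ← hw c.1]
    exact congrArg (fun f => ι (f.1 x)) h)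
  exact ⟨Finite.of_injective G hG, (Nat.card_le_card_of_injective G hG).trans h2⟩

theorem bdd_of_killed {X : Type*} [AddCommGroup X] [Finite X] (fX : X →+ X) (l : ℕ) [Fact l.Prime]
    (hX : ∀ x : X, l • x = 0) (hW : CyclicTors fW l) : Bdd fW X fX := by
  obtain ⟨V, mV, hV, Φ, hfin, hΦ, hcyc⟩ := hW
  letI mX : Module (ZMod l) X := AddCommGroup.zmodModule hX
  exact @bdd_of_embedding W _ fW (ZMod l) _ _ V X _ mV hfin _ mX _ Φ (fX.toZModLinearMap l) hcyc V.subtype
    Subtype.val_injective hΦ fun u =>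
      ⟨(u.codRestrict V fun x => (hV _).2 (by rw [← map_nsmul, hX, map_zero])).toZModLinearMap l, fun _ => rfl⟩

theorem bdd_of_exact {X : Type*} [AddCommGroup X] [Finite X] (fX : X →+ X) (Y : AddSubgroup X)
    (hY : ∀ y ∈ Y, fX y ∈ Y) (h1 : Bdd fW Y ((fX.comp Y.subtype).codRestrict Y fun y => hY y y.2))
    (h2 : Bdd fW (X ⧸ Y) (QuotientAddGroup.map Y Y fX hY)) : Bdd fW X fX := by
  obtain ⟨f1, c1⟩ := h1
  obtain ⟨f2, c2⟩ := h2
  let S := {u : X →+ W // ∀ x, u (fX x) = fW (u x)}
  let r : S → {u : Y →+ W // ∀ y, u (((fX.comp Y.subtype).codRestrict Y fun y => hY y y.2) y) = fW (u y)} :=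
    fun u => ⟨u.1.comp Y.subtype, fun y => u.2 y⟩
  have hd : ∀ (u u₀ : S), r u = r u₀ → Y ≤ (u.1 - u₀.1).ker := fun u u₀ h y hy => by
    rw [AddMonoidHom.mem_ker, AddMonoidHom.sub_apply, sub_eq_zero]
    exact congrArg (fun f => f.1 ⟨y, hy⟩) h
  classical
  let sec : Set.range r → S := fun z => z.2.choose
  have hsec : ∀ z, r (sec z) = z.1 := fun z => z.2.choose_spec
  let G : S → Set.range r × {u : (X ⧸ Y) →+ W // ∀ x, u ((QuotientAddGroup.map Y Y fX hY) x) = fW (u x)} := fun u =>
    (⟨r u, u, rfl⟩, ⟨QuotientAddGroup.lift Y (u.1 - (sec ⟨r u, u, rfl⟩).1) (hd _ _ (hsec ⟨r u, u, rfl⟩).symm), fun x => by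
      induction x using QuotientAddGroup.induction_on with
      | H z =>
        rw [QuotientAddGroup.map_mk, QuotientAddGroup.lift_mk, QuotientAddGroup.lift_mk, AddMonoidHom.sub_apply,
          AddMonoidHom.sub_apply, map_sub, u.2, (sec ⟨r u, u, rfl⟩).2]⟩)
  have hG : Function.Injective G := fun u w h => by
    have e1 : r u = r w := congrArg (fun z => z.1.1) h
    refine Subtype.ext (AddMonoidHom.ext fun x => ?_)
    have e2 := congrArg (fun z => z.2.1 (QuotientAddGroup.mk x)) h
    simp only [G, QuotientAddGroup.lift_mk, AddMonoidHom.sub_apply] at e2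
    rw [show sec ⟨r u, u, rfl⟩ = sec ⟨r w, w, rfl⟩ from congrArg sec (Subtype.ext e1)] at e2
    exact sub_left_injective e2
  refine ⟨Finite.of_injective G hG, (Nat.card_le_card_of_injective G hG).trans ?_⟩
  rw [Nat.card_prod, Y.card_eq_card_quotient_mul_card_addSubgroup, Nat.mul_comm (Nat.card (X ⧸ Y))]
  exact Nat.mul_le_mul ((Nat.card_le_card_of_injective _ Subtype.val_injective).trans c1) c2

/-- Cyclicity of all prime torsion bounds the intertwiners from every finite group. -/
theorem bdd_of_finite (hW : ∀ (l : ℕ) [Fact l.Prime], CyclicTors fW l) :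
    ∀ (n : ℕ) (X : Type*) [AddCommGroup X] [Finite X], Nat.card X ≤ n → ∀ fX : X →+ X, Bdd fW X fX := by
  intro n
  induction n with
  | zero =>
    intro X _ _ h
    exact absurd h (by have := Nat.card_pos (α := X); omega)
  | succ n ih =>
    intro X _ _ hn fX
    rcases subsingleton_or_nontrivial X with hsub | hnt
    · haveI : Subsingleton {u : X →+ W // ∀ x, u (fX x) = fW (u x)} :=
        ⟨fun a b => Subtype.ext (AddMonoidHom.ext fun x => by rw [Subsingleton.elim x 0, map_zero, map_zero])⟩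
      exact ⟨inferInstance, Finite.card_le_one_iff_subsingleton.2 inferInstance |>.trans Nat.card_pos⟩
    obtain ⟨l, hl, hdvd⟩ := Nat.exists_prime_and_dvd (Finite.one_lt_card (α := X)).ne'
    haveI := Fact.mk hl
    let Y : AddSubgroup X := (nsmulAddMonoidHom l : X →+ X).ker
    have hY : ∀ y ∈ Y, fX y ∈ Y := fun y hy => by
      rw [AddMonoidHom.mem_ker, nsmulAddMonoidHom_apply] at hy ⊢
      rw [← map_nsmul, hy, map_zero]
    obtain ⟨x, hx⟩ := exists_prime_addOrderOf_dvd_card' l hdvd
    have hYne : 1 < Nat.card Y := by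
      rw [Finite.one_lt_card_iff_nontrivial]
      refine ⟨⟨⟨x, ?_⟩, 0, fun h => ?_⟩⟩
      · rw [AddMonoidHom.mem_ker, nsmulAddMonoidHom_apply, ← hx, addOrderOf_nsmul_eq_zero]
      · rw [show x = 0 from congrArg Subtype.val h, addOrderOf_zero] at hx
        exact hl.ne_one hx.symm
    refine bdd_of_exact fW fX Y hY (bdd_of_killed fW _ l (fun y => Subtype.ext ?_) (hW l)) (ih _ ?_ _)
    · have := y.2
      rw [AddMonoidHom.mem_ker, nsmulAddMonoidHom_apply] at this
      simpa using this
    · have h := Y.card_eq_card_quotient_mul_card_addSubgroup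
      have h3 : 0 < Nat.card (X ⧸ Y) := Nat.card_pos
      nlinarith

section Rep

variable {E : Type*} [Ring E]

theorem cyclicTors_aux {l : ℕ} [Fact l.Prime] (R : E →+* AddMonoid.End W) (e : E) (V : AddSubgroup W)
    [mV : Module (ZMod l) V] [Finite V] (hV : ∀ w, w ∈ V ↔ l • w = 0)
    (hmin : ∀ m : ℤ[X], m.Monic → l ^ m.natDegree < Nat.card V → ¬ ∀ w : W, l • w = 0 → R (Polynomial.aeval e m) w = 0) :
    CyclicTors (R e) l := by
  have hstab : ∀ (a : E) (v : V), R a v.1 ∈ V := fun a v => (hV _).2 (by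
    rw [← map_nsmul, (hV _).1 v.2, map_zero])
  let rep : E →+* Module.End (ZMod l) V :=
    { toFun := fun a => ((AddMonoidHom.comp (R a : W →+ W) V.subtype).codRestrict V (hstab a)).toZModLinearMap l
      map_one' := LinearMap.ext fun v => Subtype.ext (by simp; rfl)
      map_mul' := fun a b => LinearMap.ext fun v => Subtype.ext (by simp; rfl)
      map_zero' := LinearMap.ext fun v => Subtype.ext (by simp; rfl)
      map_add' := fun a b => LinearMap.ext fun v => Subtype.ext (by simp; rfl) }
  haveI : Module.Finite (ZMod l) V := Module.Finite.of_finite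
  have hcard : Nat.card V = l ^ Module.finrank (ZMod l) V := by
    rw [Module.natCard_eq_pow_finrank (K := ZMod l) (V := V), Nat.card_zmod]
  refine ⟨V, mV, hV, rep e, inferInstance, fun v => rfl, ?_⟩
  refine exists_cyclic_field (rep e) le_rfl fun q hq hd h0 => ?_
  obtain ⟨m, hm, hmd, hmm⟩ := Polynomial.lifts_and_degree_eq_and_monic
    (f := Int.castRingHom (ZMod l)) (p := q) (by
      rw [Polynomial.lifts_iff_coeff_lifts]
      exact fun n => ZMod.intCast_surjective _) hq
  refine hmin m hmm ?_ fun w hw => ?_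
  · rw [Polynomial.natDegree_eq_of_degree_eq hmd]
    exact (Nat.pow_lt_pow_right (Fact.out : l.Prime).one_lt hd).trans_eq hcard.symm
  · have h1 : Polynomial.aeval (rep e) q = rep (Polynomial.aeval e m) := by
      rw [← hm, Polynomial.aeval_def, Polynomial.eval₂_map, Polynomial.aeval_def, Polynomial.hom_eval₂]
      exact congrArg (fun f => m.eval₂ f (rep e)) (RingHom.ext_int _ _)
    exact congrArg Subtype.val (LinearMap.congr_fun (h1.symm.trans h0) ⟨w, (hV w).2 hw⟩)

/-- A torsion space on which no polynomial of small degree in an element vanishes is cyclic for it. -/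
theorem cyclicTors_of_rep (R : E →+* AddMonoid.End W) (e : E) (l : ℕ) [Fact l.Prime]
    [Finite (nsmulAddMonoidHom l : W →+ W).ker]
    (hmin : ∀ m : ℤ[X], m.Monic → l ^ m.natDegree < Nat.card (nsmulAddMonoidHom l : W →+ W).ker →
      ¬ ∀ w : W, l • w = 0 → R (Polynomial.aeval e m) w = 0) :
    CyclicTors (R e) l :=
  @cyclicTors_aux W _ E _ l _ R e (nsmulAddMonoidHom l : W →+ W).ker
    (AddCommGroup.zmodModule fun v => Subtype.ext v.2) inferInstance (fun _ => Iff.rfl) hmin

end Rep

/-- A generated commutative ring killed by `p` is bounded by the degree of a relation. -/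
theorem natCard_le_of_monic {S : Type*} [CommRing S] {p : ℕ} (hp : 0 < p) (v : S)
    (hgen : ∀ s : S, ∃ q : ℤ[X], Polynomial.aeval v q = s) (hp0 : (p : S) = 0) (m : ℤ[X]) (hm : m.Monic)
    (hv : Polynomial.aeval v m = 0) : Finite S ∧ Nat.card S ≤ p ^ m.natDegree := by
  let F : (Fin m.natDegree → Fin p) → S := fun c => ∑ i, ((c i : ℕ) : S) * v ^ (i : ℕ)
  have hF : Function.Surjective F := fun s => by
    obtain ⟨q, rfl⟩ := hgen s
    rcases eq_or_ne m 1 with rfl | hm1
    · have h1 : (1 : S) = 0 := by simpa using hv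
      exact ⟨fun i => ⟨0, hp⟩, (eq_of_zero_eq_one h1.symm _ _)⟩
    refine ⟨fun i => ⟨((q %ₘ m).coeff i % (p : ℤ)).toNat, ?_⟩, ?_⟩
    · have h1 := Int.emod_lt_of_pos ((q %ₘ m).coeff i) (show (0 : ℤ) < p by exact_mod_cast hp)
      have h2 := Int.emod_nonneg ((q %ₘ m).coeff i) (show (p : ℤ) ≠ 0 by exact_mod_cast hp.ne')
      omega
    · conv_rhs => rw [← Polynomial.modByMonic_add_div q m, map_add, map_mul, hv, zero_mul, add_zero,
        Polynomial.aeval_eq_sum_range' (Polynomial.natDegree_modByMonic_lt q hm hm1)]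
      rw [Finset.sum_range]
      refine Finset.sum_congr rfl fun i _ => ?_
      rw [zsmul_eq_mul]
      congr 1
      have h2 := Int.emod_nonneg ((q %ₘ m).coeff i) (show (p : ℤ) ≠ 0 by exact_mod_cast hp.ne')
      show (((((q %ₘ m).coeff i % (p : ℤ)).toNat : ℕ) : S)) = _
      rw [← Int.cast_natCast, Int.toNat_of_nonneg h2]
      conv_rhs => rw [← Int.emod_add_mul_ediv ((q %ₘ m).coeff i) (p : ℤ)]
      rw [Int.cast_add, Int.cast_mul, Int.cast_natCast, hp0, zero_mul, add_zero]
  exact ⟨Finite.of_surjective F hF, (Nat.card_le_card_of_surjective F hF).trans_eq (by simp)⟩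

/-- A nilpotent element of a small ring killed by a prime has small exponent. -/
theorem pow_eq_zero_of_natCard {S : Type*} [CommRing S] [Finite S] {p : ℕ} [hp : Fact p.Prime] (hp0 : (p : S) = 0)
    (t : S) (ht : IsNilpotent t) {a : ℕ} (ha : Nat.card S ≤ p ^ a) : t ^ a = 0 := by
  rcases subsingleton_or_nontrivial S with hS | hS
  · exact Subsingleton.elim _ _
  haveI : CharP S p := (CharP.charP_iff_prime_eq_zero hp.out).2 hp0
  letI : Algebra (ZMod p) S := ZMod.algebra S p
  haveI : Module.Finite (ZMod p) S := Module.Finite.of_finite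
  have hd : Module.finrank (ZMod p) S ≤ a := by
    rw [Module.natCard_eq_pow_finrank (K := ZMod p) (V := S), Nat.card_zmod] at ha
    exact (Nat.pow_le_pow_iff_right hp.out.one_lt).1 ha
  let f : Module.End (ZMod p) S := Algebra.lmul (ZMod p) S t
  have hf : IsNilpotent f := ht.map _
  have h1 : f ^ Module.finrank (ZMod p) S = 0 := by
    have := f.aeval_self_charpoly
    rw [(LinearMap.charpoly_eq_X_pow_iff f).2 (by obtain ⟨n, hn⟩ := hf; exact fun x => ⟨n, by rw [hn]; rfl⟩),
      map_pow, Polynomial.aeval_X] at this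
    exact this
  have h2 : t ^ Module.finrank (ZMod p) S = 0 := by
    have := LinearMap.congr_fun h1 1
    rw [← map_pow] at this
    simpa using this
  exact pow_eq_zero_of_le hd h2

end Groth.Agent.AVTate.PrimeField
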