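import Groth.Agent.AVTate.PrimeField.Points

/-!
# Precomposition with an isogeny has index the degree
-/

set_option autoImplicit false
set_option linter.style.haveILetI false
set_option linter.unusedSectionVars false
set_option backward.isDefEq.respectTransparency false
set_option backward.isDefEq.respectTransparency.types false
set_option maxHeartbeats 2000000
set_option synthInstance.maxHeartbeats 400000

universe u

open CategoryTheory AlgebraicGeometry MonoidalCategory CartesianMonoidalCategory MonObj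
open Groth.Agent.GrpSchLib.AffineHopf

noncomputable section

namespace Groth.Agent.AVTate.PrimeField

open AVTate.MinOrder

variable {k : Type u} [Field k] [Finite k] {p : ℕ} [hp : Fact p.Prime] (hk : Nat.card k = p)
  {J : Type} [Fintype J] {K : J → Type} [∀ j, Field (K j)]
  [∀ j, CharZero (K j)] {ϖ : ∀ j, K j} {Aw : Over (Spec (CommRingCat.of k))} [GrpObj Aw] [IsCommMonObj Aw]
  [IsProper Aw.hom] [GeometricallyIntegral Aw.hom] {πw : Aw ⟶ Aw} [IsMonHom πw]
  (hint : ∀ j, IsIntegral ℤ (ϖ j)) (hinj : ∀ i j, minpoly ℤ (ϖ i) = minpoly ℤ (ϖ j) → i = j)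
  (hweil : ∀ j, ∀ z ∈ (minpoly ℤ (ϖ j)).aroots ℂ, ‖z‖ = Real.sqrt p)
  (ρ : (gens p ϖ).range ≃+* EndAV.End Aw)
  (hρ : ρ ⟨gens p ϖ (MvPolynomial.X 0), AlgHom.mem_range_self _ _⟩ = EndAV.End.of πw) (hAw : IsFrob Aw πw)

include hk hint hinj hweil hρ hAw

/-- Precomposition with an isogeny has finite index, at most the degree. -/
theorem coker_le {B B' : Over (Spec (CommRingCat.of k))} [GrpObj B] [IsCommMonObj B] [IsProper B.hom]
    [GeometricallyIntegral B.hom] [GrpObj B'] [IsCommMonObj B'] [IsProper B'.hom] [GeometricallyIntegral B'.hom]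
    (q : EndAV.Hom B B') [IsFinite q.toHom.left] [Surjective q.toHom.left] :
    coker Aw q ≠ 0 ∧ coker Aw q ≤ AVNu.nu q.toHom := by
  obtain ⟨π, _, hπ⟩ := exists_isFrob B
  obtain ⟨π', _, hπ'⟩ := exists_isFrob B'
  let Ω := AlgebraicClosure k
  haveI : IsAlgClosed Ω := IsAlgClosure.isAlgClosed k
  obtain ⟨H, _, _, _, i, hi, hker⟩ := AVDeg.exists_hopf_kernel q.toHom
  haveI := hi
  haveI : Finite H := Module.finite_of_finite k
  obtain ⟨n, -, hper, hnil⟩ := exists_period (p := p) H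
  obtain ⟨Q, _, _, hQp, hQi, q₁, q₂, hf₁, hs₁, hf₂, hs₂, e, hmem⟩ := exists_factor_sub q (EndAV.End.of π ^ n)
  haveI := hQp; haveI := hQi; haveI := hf₁; haveI := hs₁; haveI := hf₂; haveI := hs₂
  obtain ⟨hc0, hc1⟩ := coker_le_of_killed hk hint hinj hweil ρ hρ hAw n hπ q₁ fun T x hx => ((hmem T x).1 hx).2
  let P := AVTors.kerPts q.toHom Ω
  haveI : Finite P := AVTors.finite_kerPts (Ω := Ω) q.toHom
  haveI : Finite (Additive P) := inferInstanceAs (Finite P)
  let fX : Additive P →+ Additive P :=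
    AddMonoidHom.mk' (fun t => Additive.ofMul ⟨t.toMul.1 ≫ π, by
      show (t.toMul.1 ≫ π) ≫ q.toHom = 1
      rw [Category.assoc, hπ.natural hπ' q.toHom, ← Category.assoc, show t.toMul.1 ≫ q.toHom = 1 from t.toMul.2,
        MonObj.one_comp]⟩)
      fun s t => congrArg Additive.ofMul (Subtype.ext (MonObj.mul_comp _ _ π))
  obtain ⟨hIf, hIc⟩ := bdd_of_finite (ptsRepA Ω Aw (EndAV.End.of πw))
    (fun l _ => cyclicTors_pts Ω hk hint hinj hweil ρ hρ hAw l) _ (Additive P) le_rfl fX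
  let I := {u : Additive P →+ Additive (SGA7.pt Ω ⟶ Aw) // ∀ x, u (fX x) = ptsRepA Ω Aw (EndAV.End.of πw) (u x)}
  let Φ : EndAV.Hom B Aw →+ (Additive P →+ Additive (SGA7.pt Ω ⟶ Aw)) :=
    AddMonoidHom.mk' (fun φ => AddMonoidHom.mk' (fun t => Additive.ofMul (t.toMul.1 ≫ φ.toHom))
      fun s t => congrArg Additive.ofMul (MonObj.mul_comp _ _ φ.toHom))
      fun φ ψ => AddMonoidHom.ext fun t => congrArg Additive.ofMul (MonObj.comp_mul _ φ.toHom ψ.toHom)
  have hIm : ∀ φ, ∀ x, Φ φ (fX x) = ptsRepA Ω Aw (EndAV.End.of πw) (Φ φ x) := fun φ x => by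
    refine Additive.toMul.injective ?_
    show (x.toMul.1 ≫ π) ≫ φ.toHom = (x.toMul.1 ≫ φ.toHom) ≫ πw
    rw [Category.assoc, hπ.natural hAw φ.toHom, Category.assoc]
  let G₁ := EndAV.Hom B Aw ⧸ (Preadditive.leftComp (CommGrp.mk Aw) q₁).range
  let N := (Preadditive.leftComp (CommGrp.mk Aw) q).range
  let E : EndAV.Hom B Aw →+ G₁ × (Additive P →+ Additive (SGA7.pt Ω ⟶ Aw)) := (QuotientAddGroup.mk' _).prod Φ
  have hEk : E.ker = N := by
    ext φ
    constructor
    · intro hφ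
      have h1 : φ ∈ (Preadditive.leftComp (CommGrp.mk Aw) q₁).range :=
        (QuotientAddGroup.eq_zero_iff φ).1 (congrArg Prod.fst hφ)
      obtain ⟨h, rfl⟩ := h1
      have hu : i ≫ EndAV.Hom.toHom (q₁ ≫ h) = 1 := by
        refine comp_eq_one hk hπ i (EndAV.Hom.toHom (q₁ ≫ h)) hper hnil (Ω := Ω) (fun x => ?_) fun T x hx => ?_
        · rw [← Category.assoc]
          exact congrArg Additive.toMul (DFunLike.congr_fun (congrArg Prod.snd hφ) (Additive.ofMul (⟨x ≫ i, by
            show (x ≫ i) ≫ q.toHom = 1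
            rw [Category.assoc, hker.w, ← Category.assoc, toUnit_unique (x ≫ toUnit _) (toUnit _),
              Hom.one_def]⟩ : P)))
        · have h1 : (x ≫ i) ≫ q₁.toHom = 1 := by
            refine (hmem _ _).2 ⟨?_, by rw [Category.assoc]; exact hx⟩
            rw [Category.assoc, hker.w, ← Category.assoc, toUnit_unique (x ≫ toUnit _) (toUnit _), Hom.one_def]
          rw [EndAV.Hom.toHom_comp, ← Category.assoc, ← Category.assoc, h1, MonObj.one_comp]
      obtain ⟨h', hh'⟩ := exists_desc q (q₁ ≫ h) fun T x hx => by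
        obtain ⟨s, hs, -⟩ := hker.exists_lift x (toUnit _) (by rw [hx, Hom.one_def])
        rw [← hs, Category.assoc, hu, MonObj.comp_one]
      exact ⟨h', hh'⟩
    · rintro ⟨h, rfl⟩
      refine Prod.ext ((QuotientAddGroup.eq_zero_iff _).2 ⟨q₂ ≫ h, ?_⟩) (AddMonoidHom.ext fun t => ?_)
      · show q₁ ≫ q₂ ≫ h = q ≫ h
        rw [← Category.assoc, e]
      · refine Additive.toMul.injective ?_
        show t.toMul.1 ≫ EndAV.Hom.toHom (q ≫ h) = 1
        rw [EndAV.Hom.toHom_comp, ← Category.assoc, show t.toMul.1 ≫ q.toHom = 1 from t.toMul.2, MonObj.one_comp]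
  let emb : E.range → G₁ × I := fun z => (z.1.1, ⟨z.1.2, by
    obtain ⟨φ, hφ⟩ := z.2
    rw [← hφ]
    exact hIm φ⟩)
  have hinjE : Function.Injective emb := fun a b h => Subtype.ext (Prod.ext (congrArg (fun z : G₁ × I => z.1) h :)
    (congrArg (fun z : G₁ × I => z.2.1) h :))
  haveI : Finite G₁ := Nat.finite_of_card_ne_zero (by
    rw [← AddSubgroup.index_eq_card]
    exact hc0)
  haveI := hIf
  haveI : Finite E.range := Finite.of_injective emb hinjE
  have hidx : coker Aw q = Nat.card E.range := by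
    unfold coker
    rw [show (Preadditive.leftComp (CommGrp.mk Aw) q).range = E.ker from hEk.symm, AddSubgroup.index_ker]
  rw [hidx]
  refine ⟨Nat.card_pos.ne', (Nat.card_le_card_of_injective emb hinjE).trans ?_⟩
  rw [Nat.card_prod, ← e, nu_comp_isog]
  refine Nat.mul_le_mul ?_ (hIc.trans ?_)
  · exact (AddSubgroup.index_eq_card _).symm.trans_le hc1
  · show Nat.card P ≤ _
    refine le_trans ?_ (natCard_kerPts_le_nu (Ω := Ω) q₂)
    haveI := AVTors.finite_kerPts (Ω := Ω) q₂.toHom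
    refine Nat.card_le_card_of_injective (fun x => (⟨x.1 ≫ q₁.toHom, by
      show (x.1 ≫ q₁.toHom) ≫ q₂.toHom = 1
      rw [Category.assoc, ← EndAV.Hom.toHom_comp, e]
      exact x.2⟩ : AVTors.kerPts q₂.toHom Ω)) fun a b h => ?_
    have h' : a.1 ≫ q₁.toHom = b.1 ≫ q₁.toHom := congrArg Subtype.val h
    have hdiv : (a.1 / b.1) ≫ q₁.toHom = 1 := by rw [GrpObj.div_comp, h', div_self']
    exact Subtype.ext (div_eq_one.1 (eq_one_of_comp_frob_pow hπ n _ ((hmem _ _).1 hdiv).2))

/-- Precomposition with an isogeny of varieties with support in the family has index the degree. -/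
theorem coker_eq_nu {B B' : Over (Spec (CommRingCat.of k))} [GrpObj B] [IsCommMonObj B] [IsProper B.hom]
    [GeometricallyIntegral B.hom] [GrpObj B'] [IsCommMonObj B'] [IsProper B'.hom] [GeometricallyIntegral B'.hom]
    {π : B ⟶ B} [IsMonHom π] (hπ : IsFrob B π) (hP : Polynomial.aeval (EndAV.End.of π) (Pw ϖ) = 0)
    (q : EndAV.Hom B B') [IsFinite q.toHom.left] [Surjective q.toHom.left] :
    coker Aw q = AVNu.nu q.toHom := by
  obtain ⟨g, hg⟩ := AVTors.exists_dimNat B
  obtain ⟨hfree, hfin, hr⟩ := finrank_hom_eq hint hinj ρ hρ hAw hπ hP hg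
  haveI := hfree; haveI := hfin
  obtain ⟨r, n, hn, h1, h2⟩ := exists_inverse_of_isFinite q
  haveI : NeZero n := ⟨hn.ne'⟩
  obtain ⟨hrf, hrs⟩ := isFinite_surjective_of_inverse hn h2 h1
  haveI := hrf; haveI := hrs
  obtain ⟨a0, a1⟩ := coker_le hk hint hinj hweil ρ hρ hAw q
  obtain ⟨b0, b1⟩ := coker_le hk hint hinj hweil ρ hρ hAw r
  have hc := coker_comp (Aw := Aw) q r (leftComp_injective q)
  rw [h1, coker_nsmul, hr] at hc
  have hv := nu_comp_isog q r
  rw [h1, EndAV.Hom.toHom_nsmul, EndAV.Hom.toHom_id] at hv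
  haveI := AVDegLib.isMonHom_pow (A := B) n
  have h3 : AVNu.nu (𝟙 B ^ n : B ⟶ B) = n ^ (2 * g) := by
    rw [← AVNu.finrank_eq_nu hg hg (𝟙 B ^ n) (AVMulN.isFinite_pow n hn) (η[B].left (IsLocalRing.closedPoint k)),
      ← zpow_natCast, AVDegLib.finrank_zpow hg _ (by exact_mod_cast hn.ne'), Int.natAbs_natCast]
  rw [h3] at hv
  refine le_antisymm a1 (Nat.le_of_mul_le_mul_right ?_ (Nat.pos_of_ne_zero b0))
  calc AVNu.nu q.toHom * coker Aw r ≤ AVNu.nu q.toHom * AVNu.nu r.toHom := Nat.mul_le_mul_left _ b1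
    _ = coker Aw q * coker Aw r := by rw [← hv, hc, Nat.mul_comm]

end Groth.Agent.AVTate.PrimeField
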