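import Groth.Agent.AVTate.PrimeField.Bound
import Groth.Agent.AVTors.AntiEquivProd
import Groth.Agent.AVTors.FrobKilled

/-!
# The variety with minimal endomorphism ring is an injective cogenerator
-/

set_option autoImplicit false
set_option linter.style.haveILetI false
set_option linter.unusedSectionVars false
set_option backward.isDefEq.respectTransparency false
set_option backward.isDefEq.respectTransparency.types false
set_option maxHeartbeats 2000000
set_option synthInstance.maxHeartbeats 400000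

universe u

open CategoryTheory AlgebraicGeometry MonoidalCategory CartesianMonoidalCategory MonObj
open Groth.Agent.GrpSchLib.AffineHopf

noncomputable section

namespace Groth.Agent.AVTate.PrimeField

open AVTate.MinOrder

variable {k : Type u} [Field k]

theorem aeval_eq_eval₂ {A : Over (Spec (CommRingCat.of k))} [GrpObj A] [IsCommMonObj A] (u : EndAV.End A)
    (P : Polynomial ℤ) : Polynomial.aeval u P = Polynomial.eval₂ (Int.castRingHom (EndAV.End A)) u P := by
  rw [Polynomial.aeval_def]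
  congr 1
  exact RingHom.ext_int _ _

/-- A subgroup of order one is trivial. -/
theorem eq_one_of_finrank_eq_one {A : Over (Spec (CommRingCat.of k))} [GrpObj A] {H : Type u} [CommRing H]
    [HopfAlgebra k H] [Module.Finite k H] (hd : Module.finrank k H = 1) (i : sp k H ⟶ A)
    [IsMonHom i] : i = 1 := by
  haveI : Nontrivial H := (Bialgebra.counitAlgHom k H).toRingHom.domain_nontrivial
  have hb : Function.Surjective (algebraMap k H) := fun a => by
    obtain ⟨c, hc⟩ := (finrank_eq_one_iff_of_nonzero' (1 : H) one_ne_zero).1 hd a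
    exact ⟨c, by rw [← hc, Algebra.smul_def, _root_.mul_one]⟩
  have h1 : (𝟙 (sp k H) : sp k H ⟶ sp k H) = 1 := by
    rw [← AVTors.FrobKilled.spMap_counit, ← spMap_id]
    congr 1
    refine AlgHom.ext fun a => ?_
    obtain ⟨c, rfl⟩ := hb a
    rw [AlgHom.commutes, AlgHom.commutes]
  rw [← Category.id_comp i, h1, MonObj.one_comp]

/-- A product of two abelian varieties with its identities. -/
theorem exists_biprod' (A B : Over (Spec (CommRingCat.of k))) [GrpObj A] [IsCommMonObj A]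
    [IsProper A.hom] [GeometricallyIntegral A.hom] [GrpObj B] [IsCommMonObj B] [IsProper B.hom]
    [GeometricallyIntegral B.hom] :
    ∃ (P : Over (Spec (CommRingCat.of k))) (_ : GrpObj P) (_ : IsCommMonObj P) (_ : IsProper P.hom)
      (_ : GeometricallyIntegral P.hom) (pA : EndAV.Hom P A) (iA : EndAV.Hom A P) (pB : EndAV.Hom P B)
      (iB : EndAV.Hom B P), iA ≫ pA = 𝟙 (CommGrp.mk A) ∧ iB ≫ pB = 𝟙 (CommGrp.mk B) ∧ iA ≫ pB = 0 ∧ iB ≫ pA = 0 ∧
        pA ≫ iA + pB ≫ iB = 𝟙 (CommGrp.mk P) := by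
  haveI : IsProper (A ⊗ B).hom := by rw [Over.tensorObj_hom]; infer_instance
  haveI : GeometricallyIntegral (A ⊗ B).hom := H23.MaxAbelian.geometricallyIntegral_tensor A B
  haveI : IsCommMonObj (A ⊗ B) := AVTors.ChowKernel.comm (A ⊗ B)
  haveI : IsMonHom (lift (𝟙 A) (1 : A ⟶ B)) := AVDegPoly.isMonHom_of_one _ (by
    apply CartesianMonoidalCategory.hom_ext <;>
      simp [MonObj.one_eq_one, MonObj.comp_one, MonObj.one_comp])
  haveI : IsMonHom (lift (1 : B ⟶ A) (𝟙 B)) := AVDegPoly.isMonHom_of_one _ (by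
    apply CartesianMonoidalCategory.hom_ext <;>
      simp [MonObj.one_eq_one, MonObj.comp_one, MonObj.one_comp])
  refine ⟨A ⊗ B, inferInstance, inferInstance, inferInstance, inferInstance, EndAV.Hom.of (fst A B),
    EndAV.Hom.of (lift (𝟙 A) (1 : A ⟶ B)), EndAV.Hom.of (snd A B), EndAV.Hom.of (lift (1 : B ⟶ A) (𝟙 B)),
    EndAV.Hom.ext (lift_fst _ _), EndAV.Hom.ext (lift_snd _ _), EndAV.Hom.ext (lift_snd _ _),
    EndAV.Hom.ext (lift_fst _ _), EndAV.Hom.ext ?_⟩
  simp only [EndAV.Hom.toHom_add, EndAV.Hom.toHom_comp, EndAV.Hom.toHom_id, EndAV.Hom.toHom_of]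
  apply CartesianMonoidalCategory.hom_ext
  · rw [MonObj.mul_comp, Category.assoc, Category.assoc, lift_fst, lift_fst, Category.comp_id, Category.id_comp,
      MonObj.comp_one, _root_.mul_one]
  · rw [MonObj.mul_comp, Category.assoc, Category.assoc, lift_snd, lift_snd, Category.comp_id, Category.id_comp,
      MonObj.comp_one, _root_.one_mul]

variable [Finite k] {B B' : Over (Spec (CommRingCat.of k))}
  [GrpObj B] [IsCommMonObj B] [IsProper B.hom] [GeometricallyIntegral B.hom]
  [GrpObj B'] [IsCommMonObj B'] [IsProper B'.hom] [GeometricallyIntegral B'.hom]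
  {π : B ⟶ B} [IsMonHom π] {π' : B' ⟶ B'} [IsMonHom π'] (hπ : IsFrob B π) (hπ' : IsFrob B' π')

include hπ hπ'

/-- Polynomials in the Frobenius are natural. -/
theorem aeval_natural (f : EndAV.Hom B B') (P : Polynomial ℤ) :
    (Polynomial.aeval (EndAV.End.of π) P : EndAV.End B).toHom ≫ f.toHom =
      f.toHom ≫ (Polynomial.aeval (EndAV.End.of π') P : EndAV.End B').toHom := by
  obtain ⟨-, hle, happ⟩ := hπ
  obtain ⟨-, hle', happ'⟩ := hπ'
  rw [aeval_eq_eval₂, aeval_eq_eval₂]
  exact congrArg EndAV.Hom.toHom (AVTors.AntiEquiv.frob_eval π hle happ π' hle' happ' f P)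

theorem aeval_of_mono (f : EndAV.Hom B B') [Mono f.toHom] {P : Polynomial ℤ}
    (h : Polynomial.aeval (EndAV.End.of π') P = 0) : Polynomial.aeval (EndAV.End.of π) P = 0 := by
  refine EndAV.End.ext ((cancel_mono f.toHom).1 ?_)
  rw [aeval_natural hπ hπ' f P, h, EndAV.End.toHom_zero, EndAV.End.toHom_zero, MonObj.comp_one, MonObj.one_comp]

theorem aeval_of_epi (f : EndAV.Hom B B') [Epi f.toHom] {P : Polynomial ℤ}
    (h : Polynomial.aeval (EndAV.End.of π) P = 0) : Polynomial.aeval (EndAV.End.of π') P = 0 := by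
  refine EndAV.End.ext ((cancel_epi f.toHom).1 ?_)
  rw [← aeval_natural hπ hπ' f P, h, EndAV.End.toHom_zero, EndAV.End.toHom_zero, MonObj.comp_one, MonObj.one_comp]

omit hπ hπ'

variable {p : ℕ} [hp : Fact p.Prime] (hk : Nat.card k = p)
  {J : Type} [Fintype J] {K : J → Type} [∀ j, Field (K j)]
  [∀ j, CharZero (K j)] {ϖ : ∀ j, K j} {Aw : Over (Spec (CommRingCat.of k))} [GrpObj Aw] [IsCommMonObj Aw]
  [IsProper Aw.hom] [GeometricallyIntegral Aw.hom] {πw : Aw ⟶ Aw} [IsMonHom πw]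
  (hint : ∀ j, IsIntegral ℤ (ϖ j)) (hinj : ∀ i j, minpoly ℤ (ϖ i) = minpoly ℤ (ϖ j) → i = j)
  (hweil : ∀ j, ∀ z ∈ (minpoly ℤ (ϖ j)).aroots ℂ, ‖z‖ = Real.sqrt p)
  (ρ : (gens p ϖ).range ≃+* EndAV.End Aw)
  (hρ : ρ ⟨gens p ϖ (MvPolynomial.X 0), AlgHom.mem_range_self _ _⟩ = EndAV.End.of πw) (hAw : IsFrob Aw πw)

include hk hint hinj hweil hρ hAw hπ

/-- The homomorphisms into the variety are jointly monomorphic. -/
theorem exists_monic (hP : Polynomial.aeval (EndAV.End.of π) (Pw ϖ) = 0) :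
    ∃ (n : ℕ) (ψ : Fin n → EndAV.Hom B Aw), ∀ (T : Over (Spec (CommRingCat.of k))) (x y : T ⟶ B),
      (∀ i, x ≫ (ψ i).toHom = y ≫ (ψ i).toHom) → x = y := by
  obtain ⟨g, hg⟩ := AVTors.exists_dimNat B
  obtain ⟨hfree, hfin, -⟩ := finrank_hom_eq hint hinj ρ hρ hAw hπ hP hg
  haveI := hfree; haveI := hfin
  obtain ⟨n, ψ, hψ⟩ := Module.Finite.exists_fin (R := ℤ) (M := EndAV.Hom B Aw)
  refine ⟨n, ψ, ?_⟩
  have hspan : ∀ {C : Over (Spec (CommRingCat.of k))} [GrpObj C] [IsCommMonObj C] (v : EndAV.Hom C B),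
      (∀ i, v ≫ ψ i = 0) → ∀ φ : EndAV.Hom B Aw, v ≫ φ = 0 := by
    intro C _ _ v hv φ
    have hφ : φ ∈ Submodule.span ℤ (Set.range ψ) := hψ ▸ Submodule.mem_top
    induction hφ using Submodule.span_induction with
    | mem x hx => obtain ⟨i, rfl⟩ := hx; exact hv i
    | zero => exact Limits.comp_zero
    | add a b _ _ ha hb => rw [Preadditive.comp_add, ha, hb, add_zero]
    | smul c a _ ha => rw [Preadditive.comp_zsmul, ha, smul_zero]
  have hfaith : ∀ v : EndAV.Hom B B, (∀ i, v ≫ ψ i = 0) → v = 0 := by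
    intro v hv
    obtain ⟨l, hlp, hl⟩ := AVHomLattice.exists_prime k
    haveI := Fact.mk hlp
    let Ω := AlgebraicClosure k
    haveI : IsAlgClosed Ω := IsAlgClosure.isAlgClosed k
    refine AVTors.tateMap_injective (A := B) (B := B) Ω l hl (LinearMap.ext fun z => ?_)
    rw [map_zero, LinearMap.zero_apply]
    refine (exists_eq_tateMap hint hinj (ne_zero_of_weil hp.out.pos hint hweil) ρ hρ hAw hπ hP (Ω := Ω) hl
      (isUnit_cast hk hl)).1 _ 0 fun φ => ?_
    rw [map_zero, ← LinearMap.comp_apply, ← tateMap_comp, hspan v hv φ, map_zero, LinearMap.zero_apply]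
  obtain ⟨N, z, hN, hz⟩ := AVTors.AntiEquiv.exists_sum_eq ψ hfaith
  obtain ⟨P, _, _, hPp, hPi, pr, inc, -, hd, ho⟩ := AVTors.AntiEquiv.exists_power Aw n
  haveI := hPp; haveI := hPi
  let Ψ : EndAV.Hom B P := ∑ i, ψ i ≫ inc i
  have hΨ : ∀ i, Ψ ≫ pr i = ψ i := fun i => by
    rw [Preadditive.sum_comp]
    refine (Finset.sum_eq_single i (fun j _ hji => ?_) (fun h => absurd (Finset.mem_univ i) h)).trans ?_
    · rw [Category.assoc, ho j i hji, Limits.comp_zero]
    · rw [Category.assoc, hd, Category.comp_id]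
  let G : EndAV.Hom P B := ∑ i, pr i ≫ z i
  have hΨG : Ψ ≫ G = N • 𝟙 (CommGrp.mk B) := by
    rw [← hz, Preadditive.comp_sum]
    exact Finset.sum_congr rfl fun i _ => by rw [← Category.assoc, hΨ]
  haveI : IsFinite (Ψ.toHom.left ≫ G.toHom.left) := by
    rw [← Over.comp_left, ← EndAV.Hom.toHom_comp, hΨG, EndAV.Hom.toHom_nsmul, EndAV.Hom.toHom_id]
    exact AVMulN.isFinite_pow N hN
  haveI : IsSeparated G.toHom.left := by
    haveI : IsSeparated (G.toHom.left ≫ B.hom) := by rw [Over.w G.toHom]; infer_instance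
    exact IsSeparated.of_comp G.toHom.left B.hom
  haveI : IsFinite Ψ.toHom.left := IsFinite.of_comp Ψ.toHom.left G.toHom.left
  obtain ⟨H, _, _, _, i, hi, hker⟩ := AVDeg.exists_hopf_kernel Ψ.toHom
  haveI := hi
  haveI : IsFinite (sp k H).hom := isFinite_sp H
  haveI : Mono η[P] := by
    haveI : Mono (η[P].left ≫ P.hom) := by
      rw [Over.w η[P]]
      exact inferInstanceAs (Mono (𝟙 (Spec (CommRingCat.of k))))
    haveI := mono_of_mono η[P].left P.hom
    exact Over.mono_of_mono_left _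
  haveI : Mono i := ⟨fun a b h => hker.hom_ext h (toUnit_unique _ _)⟩
  obtain ⟨Q, _, q, hQp, hQi, hq, hsur, hfl, hk'⟩ := AVTors.FiniteQuot.exists_quot i (AVTors.ChowKernel.isNormalHom i)
  haveI := hQp; haveI := hQi; haveI := hq; haveI := hsur; haveI := hfl
  haveI : IsCommMonObj Q := AVTors.ChowKernel.comm Q
  haveI : QuasiCompact q.left := by
    haveI : QuasiCompact (q.left ≫ Q.hom) := by rw [Over.w q]; infer_instance
    exact QuasiCompact.of_comp q.left Q.hom
  have hiΨ : i ≫ Ψ.toHom = 1 := by rw [hker.w, Hom.one_def]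
  obtain ⟨r, hr, hqr⟩ := AVTors.GalSub.exists_fac i q hk' Ψ.toHom hiΨ
  haveI := hr
  haveI : IsFinite (q.left ≫ r.left) := by rw [← Over.comp_left, hqr]; infer_instance
  haveI : IsSeparated r.left := by
    haveI : IsSeparated (r.left ≫ P.hom) := by rw [Over.w r]; infer_instance
    exact IsSeparated.of_comp r.left P.hom
  haveI : IsFinite (EndAV.Hom.of q).toHom.left := IsFinite.of_comp q.left r.left
  haveI : Surjective (EndAV.Hom.of q).toHom.left := hsur
  have hc : coker Aw (EndAV.Hom.of q) = 1 := by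
    have e : EndAV.Hom.of q ≫ EndAV.Hom.of r = Ψ := EndAV.Hom.ext hqr
    refine AddSubgroup.index_eq_one.2 (eq_top_iff.2 fun φ _ => ?_)
    have hφ : φ ∈ Submodule.span ℤ (Set.range ψ) := hψ ▸ Submodule.mem_top
    induction hφ using Submodule.span_induction with
    | mem x hx =>
      obtain ⟨j, rfl⟩ := hx
      refine ⟨EndAV.Hom.of r ≫ pr j, ?_⟩
      show EndAV.Hom.of q ≫ EndAV.Hom.of r ≫ pr j = ψ j
      rw [← Category.assoc, e, hΨ]
    | zero => exact zero_mem _
    | add a b _ _ ha hb => exact add_mem (ha trivial) (hb trivial)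
    | smul c a _ ha => exact AddSubgroup.zsmul_mem _ (ha trivial) c
  have hd1 : Module.finrank k H = 1 := by
    rw [finrank_eq_nu (EndAV.Hom.of q) hk', ← coker_eq_nu hk hint hinj hweil ρ hρ hAw hπ hP (EndAV.Hom.of q), hc]
  intro T x y hxy
  have hdiv : (x / y) ≫ Ψ.toHom = 1 := by
    rw [GrpObj.div_comp, div_eq_one]
    have h : ∀ w : T ⟶ B, w ≫ Ψ.toHom = ∏ i, (w ≫ (ψ i).toHom) ≫ (inc i).toHom := fun w => by
      show w ≫ (∑ i, ψ i ≫ inc i : EndAV.Hom B P).toHom = _
      induction (Finset.univ : Finset (Fin n)) using Finset.induction with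
      | empty => rw [Finset.sum_empty, Finset.prod_empty, EndAV.Hom.toHom_zero, MonObj.comp_one]
      | insert a s ha ih =>
        rw [Finset.sum_insert ha, Finset.prod_insert ha, EndAV.Hom.toHom_add, MonObj.comp_mul, ih,
          EndAV.Hom.toHom_comp, Category.assoc]
    rw [h, h]
    exact Finset.prod_congr rfl fun i _ => by rw [hxy]
  obtain ⟨s, hs, -⟩ := hker.exists_lift (x / y) (toUnit _) (by rw [hdiv, Hom.one_def])
  rw [eq_one_of_finrank_eq_one hd1 i, MonObj.comp_one] at hs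
  exact div_eq_one.1 hs.symm

include hπ'

/-- The variety is injective for closed subvarieties. -/
theorem exists_extend (hP : Polynomial.aeval (EndAV.End.of π) (Pw ϖ) = 0)
    (hP' : Polynomial.aeval (EndAV.End.of π') (Pw ϖ) = 0) (φ : EndAV.Hom B B') [IsClosedImmersion φ.toHom.left]
    (f : EndAV.Hom B Aw) : ∃ g : EndAV.Hom B' Aw, φ ≫ g = f := by
  obtain ⟨y, m, hm, hy⟩ := AVTors.AntiEquiv.exists_reg φ
  haveI : Mono φ.toHom := Over.mono_of_mono_left φ.toHom
  have hφy : φ ≫ y = m • 𝟙 (CommGrp.mk B) := EndAV.Hom.ext ((cancel_mono φ.toHom).1 (by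
    rw [← EndAV.Hom.toHom_comp, ← EndAV.Hom.toHom_comp, Category.assoc, hy, Preadditive.nsmul_comp, Category.id_comp]))
  let e : EndAV.Hom B' B' := m • 𝟙 (CommGrp.mk B') - y ≫ φ
  obtain ⟨C, _, _, hCp, hCi, j, e', hj, he's, hej⟩ := AVTors.AntiEquiv.exists_hom_image e
  haveI := hCp; haveI := hCi; haveI := hj; haveI := he's
  haveI : Mono j.toHom := Over.mono_of_mono_left j.toHom
  have hφe : φ ≫ e' = 0 := EndAV.Hom.ext ((cancel_mono j.toHom).1 (by
    rw [← EndAV.Hom.toHom_comp, ← EndAV.Hom.toHom_comp, Category.assoc, hej]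
    simp only [e, Preadditive.comp_sub, Preadditive.comp_nsmul, Category.comp_id, ← Category.assoc, hφy,
      Preadditive.nsmul_comp, Category.id_comp, sub_self, Limits.zero_comp]))
  have hjy : j ≫ y = 0 := AVTors.AntiEquiv.epi_hom e' (by
    rw [← Category.assoc, hej, Limits.comp_zero]
    simp only [e, Preadditive.sub_comp, Preadditive.nsmul_comp, Category.id_comp, Category.assoc, hφy,
      Preadditive.comp_nsmul, Category.comp_id, sub_self])
  have hje : j ≫ e' = m • 𝟙 (CommGrp.mk C) := AVTors.AntiEquiv.epi_hom e' (EndAV.Hom.ext ((cancel_mono j.toHom).1 (by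
    rw [← EndAV.Hom.toHom_comp, ← EndAV.Hom.toHom_comp, Category.assoc, Category.assoc, hej, ← Category.assoc, hej,
      Category.assoc e']
    simp only [Preadditive.nsmul_comp, Preadditive.comp_nsmul, Category.id_comp, hej]
    simp only [e, Preadditive.comp_sub, Preadditive.sub_comp, Preadditive.nsmul_comp, Preadditive.comp_nsmul,
      Category.id_comp, Category.comp_id, Category.assoc, smul_sub]
    rw [← Category.assoc φ y, hφy, Preadditive.nsmul_comp, Category.id_comp, Preadditive.comp_nsmul, sub_self,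
      sub_zero])))
  obtain ⟨P, _, _, hPp, hPi, pX, iX, pC, iC, hXX, hCC, hXC, hCX, hsum⟩ := exists_biprod' B C
  haveI := hPp; haveI := hPi
  let σ : EndAV.Hom P B' := pX ≫ φ + pC ≫ j
  let h : EndAV.Hom B' P := y ≫ iX + e' ≫ iC
  have hiXσ : iX ≫ σ = φ := by
    simp only [σ, Preadditive.comp_add, ← Category.assoc, hXX, hXC, Category.id_comp, Limits.zero_comp, add_zero]
  have hiCσ : iC ≫ σ = j := by
    simp only [σ, Preadditive.comp_add, ← Category.assoc, hCC, hCX, Category.id_comp, Limits.zero_comp, zero_add]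
  have h1 : h ≫ σ = m • 𝟙 (CommGrp.mk B') := by
    simp only [h, Preadditive.add_comp, Category.assoc, hiXσ, hiCσ, hej]
    simp only [e, add_sub_cancel]
  have h2 : σ ≫ h = m • 𝟙 (CommGrp.mk P) := by
    simp only [σ, h, Preadditive.add_comp, Preadditive.comp_add, Category.assoc]
    rw [← Category.assoc φ y, hφy, ← Category.assoc φ e', hφe, ← Category.assoc j y, hjy, ← Category.assoc j e', hje]
    simp only [Preadditive.nsmul_comp, Preadditive.comp_nsmul, Category.id_comp, Limits.zero_comp, Limits.comp_zero,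
      add_zero, zero_add]
    rw [← smul_add, hsum]
  obtain ⟨hσf, hσs⟩ := isFinite_surjective_of_inverse hm h2 h1
  haveI := hσf; haveI := hσs
  obtain ⟨πP, _, hπP⟩ := exists_isFrob P
  obtain ⟨πC, _, hπC⟩ := exists_isFrob C
  have hPC : Polynomial.aeval (EndAV.End.of πC) (Pw ϖ) = 0 := aeval_of_mono hπC hπ' j hP'
  have hPP : Polynomial.aeval (EndAV.End.of πP) (Pw ϖ) = 0 := by
    haveI : Epi h.toHom := by
      obtain ⟨hf, hs⟩ := isFinite_surjective_of_inverse hm h1 h2
      haveI := hf; haveI := hs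
      exact epi_isog h
    exact aeval_of_epi hπ' hπP h hP'
  obtain ⟨H, _, _, _, i, hi, hker⟩ := AVDeg.exists_hopf_kernel σ.toHom
  haveI := hi
  haveI : IsFinite (sp k H).hom := isFinite_sp H
  haveI : Mono η[B'] := by
    haveI : Mono (η[B'].left ≫ B'.hom) := by
      rw [Over.w η[B']]
      exact inferInstanceAs (Mono (𝟙 (Spec (CommRingCat.of k))))
    haveI := mono_of_mono η[B'].left B'.hom
    exact Over.mono_of_mono_left _
  haveI : Mono i := ⟨fun a b h => hker.hom_ext h (toUnit_unique _ _)⟩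
  have hiσ : i ≫ σ.toHom = 1 := by rw [hker.w, Hom.one_def]
  haveI : Mono (i ≫ pC.toHom) := ⟨fun {T} a b hab => by
    have hσ : ∀ w : T ⟶ sp k H, ((w ≫ i) ≫ pX.toHom) ≫ φ.toHom * ((w ≫ i) ≫ pC.toHom) ≫ j.toHom = 1 := fun w => by
      rw [Category.assoc (w ≫ i) pX.toHom, Category.assoc (w ≫ i) pC.toHom, ← MonObj.comp_mul, Category.assoc w i]
      show w ≫ i ≫ σ.toHom = 1
      rw [hiσ, MonObj.comp_one]
    have hC : (a ≫ i) ≫ pC.toHom = (b ≫ i) ≫ pC.toHom := by rw [Category.assoc, hab, Category.assoc]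
    have hX : (a ≫ i) ≫ pX.toHom = (b ≫ i) ≫ pX.toHom := by
      refine (cancel_mono φ.toHom).1 ?_
      have h := (hσ a).trans (hσ b).symm
      rw [hC] at h
      exact mul_right_cancel h
    have hid : ∀ w : T ⟶ sp k H, w ≫ i =
        ((w ≫ i) ≫ pX.toHom) ≫ iX.toHom * ((w ≫ i) ≫ pC.toHom) ≫ iC.toHom := fun w => by
      rw [Category.assoc (w ≫ i) pX.toHom, Category.assoc (w ≫ i) pC.toHom, ← MonObj.comp_mul]
      conv_lhs => rw [← Category.comp_id (w ≫ i)]
      exact congrArg ((w ≫ i) ≫ ·) (congrArg EndAV.Hom.toHom hsum).symm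
    refine (cancel_mono i).1 ?_
    rw [hid a, hid b, hC, hX]⟩
  obtain ⟨Q, _, q, hQp, hQi, hq, hsur, hfl, hk'⟩ :=
    AVTors.FiniteQuot.exists_quot (i ≫ pC.toHom) (AVTors.ChowKernel.isNormalHom _)
  haveI := hQp; haveI := hQi; haveI := hq; haveI := hsur; haveI := hfl
  haveI : IsCommMonObj Q := AVTors.ChowKernel.comm Q
  haveI : QuasiCompact q.left := by
    haveI : QuasiCompact (q.left ≫ Q.hom) := by rw [Over.w q]; infer_instance
    exact QuasiCompact.of_comp q.left Q.hom
  let qQ : EndAV.Hom C Q := EndAV.Hom.of q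
  haveI : IsFinite qQ.toHom.left := by
    obtain ⟨v, hv, e''⟩ := AVTors.GalSub.exists_fac (i ≫ pC.toHom) q hk' (EndAV.Hom.toHom (m • 𝟙 (CommGrp.mk C))) (by
      have h0 : (i ≫ σ.toHom) ≫ h.toHom ≫ pC.toHom = 1 := by rw [hiσ, MonObj.one_comp]
      rw [Category.assoc, ← EndAV.Hom.toHom_comp, ← EndAV.Hom.toHom_comp, ← Category.assoc σ, h2,
        Preadditive.nsmul_comp, Category.id_comp] at h0
      rw [Category.assoc, ← EndAV.Hom.toHom_comp, Preadditive.comp_nsmul, Category.comp_id]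
      exact h0)
    haveI := hv
    haveI : IsFinite (q.left ≫ v.left) := by
      rw [← Over.comp_left, e'', EndAV.Hom.toHom_nsmul, EndAV.Hom.toHom_id]
      exact AVMulN.isFinite_pow m hm
    haveI : IsSeparated v.left := by
      haveI : IsSeparated (v.left ≫ C.hom) := by rw [Over.w v]; infer_instance
      exact IsSeparated.of_comp v.left C.hom
    exact IsFinite.of_comp q.left v.left
  haveI : Surjective qQ.toHom.left := hsur
  let R := (Preadditive.leftComp (CommGrp.mk Aw) σ).range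
  let E : EndAV.Hom C Aw →+ EndAV.Hom P Aw ⧸ R :=
    (QuotientAddGroup.mk' R).comp (Preadditive.leftComp (CommGrp.mk Aw) pC)
  have hEk : E.ker = (Preadditive.leftComp (CommGrp.mk Aw) qQ).range := by
    ext w
    rw [AddMonoidHom.mem_ker]
    show (QuotientAddGroup.mk (pC ≫ w) : EndAV.Hom P Aw ⧸ R) = 0 ↔ _
    rw [QuotientAddGroup.eq_zero_iff]
    constructor
    · rintro ⟨G, hG⟩
      obtain ⟨v, hv, e''⟩ := AVTors.GalSub.exists_fac (i ≫ pC.toHom) q hk' w.toHom (by
        rw [Category.assoc, ← EndAV.Hom.toHom_comp, ← hG]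
        show i ≫ σ.toHom ≫ EndAV.Hom.toHom G = 1
        rw [← Category.assoc, hiσ, MonObj.one_comp])
      haveI := hv
      exact ⟨EndAV.Hom.of v, EndAV.Hom.ext e''⟩
    · rintro ⟨v, rfl⟩
      obtain ⟨G, hG⟩ := exists_desc σ (pC ≫ qQ ≫ v) fun T x hx => by
        obtain ⟨s, hs, -⟩ := hker.exists_lift x (toUnit _) (by rw [hx, Hom.one_def])
        rw [← hs, Category.assoc]
        show s ≫ i ≫ pC.toHom ≫ q ≫ EndAV.Hom.toHom v = 1
        rw [← Category.assoc i, ← Category.assoc (i ≫ pC.toHom), hk'.w, ← Hom.one_def, MonObj.one_comp,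
          MonObj.comp_one]
      exact ⟨G, hG⟩
  have hcard : Nat.card E.range = Nat.card (EndAV.Hom P Aw ⧸ R) := by
    rw [← AddSubgroup.index_ker, hEk, ← AddSubgroup.index_eq_card]
    show coker Aw qQ = coker Aw σ
    rw [coker_eq_nu hk hint hinj hweil ρ hρ hAw hπC hPC qQ, coker_eq_nu hk hint hinj hweil ρ hρ hAw hπP hPP σ,
      ← finrank_eq_nu qQ hk', ← finrank_eq_nu σ hker]
  haveI : Finite (EndAV.Hom P Aw ⧸ R) := Nat.finite_of_card_ne_zero (by
    rw [← AddSubgroup.index_eq_card]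
    exact (coker_le hk hint hinj hweil ρ hρ hAw σ).1)
  have htop : E.range = ⊤ := AddSubgroup.eq_top_of_card_eq _ hcard
  obtain ⟨w, hw⟩ : (QuotientAddGroup.mk (pX ≫ f) : EndAV.Hom P Aw ⧸ R) ∈ E.range := htop ▸ AddSubgroup.mem_top _
  obtain ⟨G, hG⟩ := QuotientAddGroup.eq.1 (hw : (QuotientAddGroup.mk (pC ≫ w) : EndAV.Hom P Aw ⧸ R) = _)
  refine ⟨G, ?_⟩
  change σ ≫ G = -(pC ≫ w) + pX ≫ f at hG
  have h := congrArg (iX ≫ ·) hG
  simp only [← Category.assoc, hiXσ, Preadditive.comp_add, Preadditive.comp_neg, hXX, hXC, Category.id_comp,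
    Limits.zero_comp, neg_zero, zero_add] at h
  exact h

end Groth.Agent.AVTate.PrimeField
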