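import Groth.Agent.AVTate.Frob
import Groth.Agent.AVTors.FactorPts
import Groth.Agent.AVTors.GalSub
import Groth.Agent.Lib.AVWeilCount
import Groth.Agent.Lib.AVDeg
import Mathlib.LinearAlgebra.FreeModule.Finite.Matrix

/-!
# Finite subgroups of abelian varieties over a prime field under the Frobenius
-/

set_option autoImplicit false
set_option linter.style.haveILetI false
set_option linter.unusedSectionVars false
set_option backward.isDefEq.respectTransparency false
set_option backward.isDefEq.respectTransparency.types false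
set_option maxHeartbeats 2000000
set_option synthInstance.maxHeartbeats 400000

universe u

open CategoryTheory CategoryTheory.Limits AlgebraicGeometry MonoidalCategory CartesianMonoidalCategory MonObj
open Groth.Agent.GrpSchLib.AffineHopf

noncomputable section

namespace Groth.Agent.AVTate.PrimeField

variable {k : Type u} [Field k] {Ω : Type u} [Field Ω] [Algebra k Ω]

/-- Morphisms out of a finite reduced scheme are determined by the geometric points. -/
theorem ext_of_reduced [IsAlgClosed Ω] {N Z : Over (Spec (CommRingCat.of k))} [IsFinite N.hom]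
    [AlgebraicGeometry.IsReduced N.left] [IsSeparated Z.hom] (f g : N ⟶ Z)
    (h : ∀ a : SGA7.pt Ω ⟶ N, a ≫ f = a ≫ g) : f = g := by
  let jj : (∐ fun _ : (SGA7.pt Ω ⟶ N) => Spec (CommRingCat.of Ω)) ⟶ N.left := Sigma.desc fun a => a.left
  haveI : IsDominant jj := ⟨by
    refine dense_iff_closure_eq.2 (Set.eq_univ_of_univ_subset fun x _ => subset_closure ?_)
    obtain ⟨a, rfl⟩ := AVTors.GalSub.exists_pt (Ω := Ω) x
    refine ⟨(Sigma.ι (fun _ : (SGA7.pt Ω ⟶ N) => Spec (CommRingCat.of Ω)) a) (IsLocalRing.closedPoint Ω), ?_⟩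
    rw [← Scheme.Hom.comp_apply, Sigma.ι_desc]
    rfl⟩
  refine Over.OverMorphism.ext (ext_of_isDominant_of_isSeparated Z.hom ((Over.w f).trans (Over.w g).symm) jj ?_)
  refine Sigma.hom_ext _ _ fun a => ?_
  rw [Sigma.ι_desc_assoc, Sigma.ι_desc_assoc]
  exact congrArg Over.Hom.left (h a)

theorem isFinite_sp (H : Type u) [CommRing H] [Algebra k H] [Module.Finite k H] : IsFinite (sp k H).hom := by
  show IsFinite (Spec.map (CommRingCat.ofHom (algebraMap k H)))
  rw [IsFinite.SpecMap_iff]
  exact RingHom.finite_algebraMap.2 inferInstance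

theorem natCard_pts_le [IsAlgClosed Ω] (H : Type u) [CommRing H] [HopfAlgebra k H] [Module.Finite k H] :
    Finite (SGA7.pt Ω ⟶ sp k H) ∧ Nat.card (SGA7.pt Ω ⟶ sp k H) ≤ Module.finrank k H := by
  let F : (H →ₐ[k] Ω) → (SGA7.pt Ω ⟶ sp k H) := fun f => spMap f
  have hF : Function.Surjective F := fun x => by
    obtain ⟨f, hf⟩ := exists_eq_spMap (A := Ω) (B := H) x
    exact ⟨f, hf.symm⟩
  haveI : Finite (H →ₐ[k] Ω) := inferInstance
  exact ⟨Finite.of_surjective F hF,
    (Nat.card_le_card_of_surjective F hF).trans (card_algHom_le_finrank k H Ω)⟩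

section Frob

variable [Finite k] {p : ℕ} [hp : Fact p.Prime] (hk : Nat.card k = p)

include hk

theorem charP : CharP k p := by
  haveI := Fintype.ofFinite k
  rw [Nat.card_eq_fintype_card] at hk
  obtain ⟨q, hq⟩ := CharP.exists k
  haveI := hq
  obtain ⟨n, hqp, hn⟩ := FiniteField.card k q
  have : q = p := ((Nat.prime_dvd_prime_iff_eq hqp hp.out).1 (hk ▸ hn ▸ dvd_pow_self q n.ne_zero))
  exact this ▸ hq

/-- The iterated Frobenius of an algebra over the prime field. -/
theorem exists_frobPow (R : Type u) [CommRing R] [Algebra k R] (j : ℕ) :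
    ∃ φ : R →ₐ[k] R, ∀ a, φ a = a ^ p ^ j := by
  haveI := Fintype.ofFinite k
  induction j with
  | zero => exact ⟨AlgHom.id k R, fun a => by simp⟩
  | succ j ih =>
    obtain ⟨φ, hφ⟩ := ih
    refine ⟨(FiniteField.frobeniusAlgHom k R).comp φ, fun a => ?_⟩
    show φ a ^ Fintype.card k = _
    rw [hφ, ← pow_mul, ← Nat.card_eq_fintype_card, hk, pow_succ]

variable {A : Over (Spec (CommRingCat.of k))} [GrpObj A] [IsCommMonObj A] [IsProper A.hom]
  [GeometricallyIntegral A.hom] {π : A ⟶ A} [IsMonHom π] (hπ : IsFrob A π)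

include hπ

/-- On the spectrum of an algebra the Frobenius acts by the power map. -/
theorem comp_frobPow {R : Type u} [CommRing R] [Algebra k R] [Nontrivial R] (j : ℕ) (x : sp k R ⟶ A) (φ : R →ₐ[k] R)
    (hφ : ∀ a, φ a = a ^ p ^ j) : x ≫ (EndAV.End.of π ^ j).toHom = spMap φ ≫ x := by
  obtain ⟨-, hle, happ⟩ := hπ
  haveI := charP hk
  haveI : CharP R p := charP_of_injective_algebraMap (algebraMap k R).injective p
  haveI : ExpChar R p := ExpChar.prime hp.out
  refine Over.OverMorphism.ext ?_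
  show x.left ≫ _ = Spec.map (CommRingCat.ofHom φ.toRingHom) ≫ x.left
  rw [AVWeilCount.comp_pow_eq π (Nat.card k) hle happ p 1 (by rw [hk, pow_one]) j x.left]
  congr 2
  refine CommRingCat.hom_ext (RingHom.ext fun a => ?_)
  show iterateFrobenius R p (1 * j) a = φ a
  rw [iterateFrobenius_def, hφ, Nat.one_mul]

omit hπ hk in
theorem exists_period (H : Type u) [CommRing H] [Finite H] :
    ∃ J, 0 < J ∧ (∀ a : H, (a ^ p ^ J) ^ p ^ J = a ^ p ^ J) ∧ ∀ a : H, IsNilpotent a → a ^ p ^ J = 0 := by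
  let F : H → H := fun a => a ^ p
  have hF : ∀ (j : ℕ) (a : H), F^[j] a = a ^ p ^ j := fun j a => by
    induction j with
    | zero => simp
    | succ j ih =>
      rw [Function.iterate_succ_apply', ih]
      show (a ^ p ^ j) ^ p = _
      rw [← pow_mul, pow_succ]
  obtain ⟨i₀, j₀, hne, he⟩ := Finite.exists_ne_map_eq_of_infinite fun j => F^[j]
  obtain ⟨i, j, hij, he⟩ : ∃ i j, i < j ∧ F^[i] = F^[j] := by
    rcases lt_or_gt_of_ne hne with h | h
    exacts [⟨i₀, j₀, h, he⟩, ⟨j₀, i₀, h, he.symm⟩]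
  let d := j - i
  have hd : ∀ m t, F^[i + t + m * d] = F^[i + t] := by
    intro m
    induction m with
    | zero => intro t; rw [Nat.zero_mul, Nat.add_zero]
    | succ m ih =>
      intro t
      have e : i + t + (m + 1) * d = (t + m * d) + j := by rw [Nat.succ_mul]; omega
      rw [e, Function.iterate_add, ← he, ← Function.iterate_add, show t + m * d + i = i + t + m * d by omega, ih]
  let J := d * (i + 1)
  have hJi : i ≤ J := (Nat.le_succ i).trans (Nat.le_mul_of_pos_left _ (by omega))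
  have hJ : ∀ a, F^[J + J] a = F^[J] a := fun a => by
    have h := congrFun (hd (i + 1) (J - i)) a
    rwa [Nat.add_sub_cancel' hJi, Nat.mul_comm (i + 1) d] at h
  have hper : ∀ a : H, (a ^ p ^ J) ^ p ^ J = a ^ p ^ J := fun a => by
    rw [← hF, ← hF, ← Function.iterate_add_apply, hJ, hF]
  refine ⟨J, Nat.mul_pos (by omega) (by omega), hper, fun a ⟨n, hn⟩ => ?_⟩
  have hm : ∀ m, (a ^ p ^ J) ^ (p ^ J) ^ m = a ^ p ^ J := fun m => by
    induction m with
    | zero => simp
    | succ m ih => rw [pow_succ, pow_mul, ih, hper]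
  have hp1 : 1 < p ^ J := Nat.one_lt_pow (Nat.mul_pos (by omega) (by omega)).ne' hp.out.one_lt
  rw [← hm n, ← pow_mul]
  refine pow_eq_zero_of_le ?_ hn
  calc n ≤ (p ^ J) ^ n := (Nat.lt_pow_self hp1).le
    _ ≤ p ^ J * (p ^ J) ^ n := Nat.le_mul_of_pos_left _ (by positivity)

variable {Z : Over (Spec (CommRingCat.of k))} [GrpObj Z] [IsCommMonObj Z] [IsSeparated Z.hom]

/-- A homomorphism vanishes on a finite subgroup if it does so on its geometric points and on its part killed by a
stable power of the Frobenius. -/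
theorem comp_eq_one [IsAlgClosed Ω] {H : Type u} [CommRing H] [HopfAlgebra k H] [Module.Finite k H]
    (i : sp k H ⟶ A) [IsMonHom i] (u : A ⟶ Z) [IsMonHom u] {J : ℕ}
    (hper : ∀ a : H, (a ^ p ^ J) ^ p ^ J = a ^ p ^ J) (hnil : ∀ a : H, IsNilpotent a → a ^ p ^ J = 0)
    (hpts : ∀ x : SGA7.pt Ω ⟶ sp k H, x ≫ i ≫ u = 1)
    (hinf : ∀ (T : Over (Spec (CommRingCat.of k))) (x : T ⟶ sp k H), x ≫ i ≫ (EndAV.End.of π ^ J).toHom = 1 →
      x ≫ i ≫ u = 1) : i ≫ u = 1 := by
  haveI : Nontrivial H := (Bialgebra.counitAlgHom k H).toRingHom.domain_nontrivial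
  obtain ⟨φ, hφ⟩ := exists_frobPow hk H J
  have hcomp : i ≫ (EndAV.End.of π ^ J).toHom = spMap φ ≫ i := comp_frobPow hk hπ J i φ hφ
  let E : Subalgebra k H := φ.range
  haveI : _root_.IsReduced E := ⟨fun b ⟨n, hn⟩ => by
    obtain ⟨_, a, rfl⟩ := b
    refine Subtype.ext ?_
    have h0 : IsNilpotent (φ a) := ⟨n, congrArg Subtype.val hn⟩
    show φ a = 0
    rw [hφ, ← hper, hnil _ (hφ a ▸ h0)]⟩
  haveI : Module.Finite k E := Module.Finite.of_injective E.val.toLinearMap Subtype.val_injective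
  haveI := isFinite_sp (k := k) E
  haveI : AlgebraicGeometry.IsReduced (sp k E).left := inferInstanceAs (AlgebraicGeometry.IsReduced (Spec (CommRingCat.of E)))
  let e : sp k H ⟶ sp k H := spMap φ
  have hval : spMap φ.rangeRestrict ≫ i ≫ u = 1 := ext_of_reduced (Ω := Ω) _ _ fun a => by
    rw [← Category.assoc, MonObj.comp_one]
    exact hpts _
  have he1 : e ≫ i ≫ u = 1 := by
    rw [show e = spMap E.val ≫ spMap φ.rangeRestrict by rw [spMap_comp, AlgHom.val_comp_rangeRestrict],
      Category.assoc, hval, MonObj.comp_one]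
  have hee : e ≫ e = e := by
    show spMap φ ≫ spMap φ = spMap φ
    rw [spMap_comp]
    congr 1
    exact AlgHom.ext fun a => by simp only [AlgHom.comp_apply, hφ, hper]
  let d : sp k H ⟶ sp k H := 𝟙 _ / e
  have hd : d ≫ i ≫ u = i ≫ u := by
    show (𝟙 _ / e) ≫ i ≫ u = i ≫ u
    rw [GrpObj.div_comp, Category.id_comp, he1, div_one]
  rw [← hd]
  refine hinf _ d ?_
  show (𝟙 _ / e) ≫ i ≫ (EndAV.End.of π ^ J).toHom = 1
  rw [GrpObj.div_comp, Category.id_comp, hcomp, ← Category.assoc, hee, div_self']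

end Frob

end Groth.Agent.AVTate.PrimeField
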