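import Groth.Agent.AVTate.MinOrderIsog
import Groth.Agent.AVTors.FiniteQuot
import Groth.Agent.AVTors.GalSub
import Groth.Agent.Lib.AVDeg
import Groth.Agent.Lib.AVNu
import Groth.Agent.AVTate.PrimeField.Kernel

/-!
# Factorisations of isogenies through subgroups of their kernels
-/

set_option autoImplicit false
set_option linter.style.haveILetI false
set_option linter.unusedSectionVars false
set_option backward.isDefEq.respectTransparency false
set_option backward.isDefEq.respectTransparency.types false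
set_option maxHeartbeats 2000000
set_option synthInstance.maxHeartbeats 400000

universe u

open CategoryTheory AlgebraicGeometry MonoidalCategory CartesianMonoidalCategory MonObj
open Groth.Agent.GrpSchLib.AffineHopf

noncomputable section

namespace Groth.Agent.AVTate.PrimeField

variable {k : Type u} [Field k] {B B' Z : Over (Spec (CommRingCat.of k))}
  [GrpObj B] [IsCommMonObj B] [IsProper B.hom] [GeometricallyIntegral B.hom]
  [GrpObj B'] [IsCommMonObj B'] [IsProper B'.hom] [GeometricallyIntegral B'.hom]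
  [GrpObj Z] [IsCommMonObj Z] [IsProper Z.hom] [GeometricallyIntegral Z.hom]
  (q : EndAV.Hom B B') [IsFinite q.toHom.left] [Surjective q.toHom.left]

include q in
theorem dim_eq : topologicalKrullDim B'.left = topologicalKrullDim B.left :=
  (GrpSchLib.IsogSub.topologicalKrullDim_eq_of_isIntegralHom q.toHom.left).symm

theorem flat_isog : Flat q.toHom.left := (S19572.result k B B' q.toHom (dim_eq q).symm).2

/-- A homomorphism killing the kernel of an isogeny factors through it. -/
theorem exists_desc (g : EndAV.Hom B Z)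
    (hg : ∀ (T : Over (Spec (CommRingCat.of k))) (x : T ⟶ B), x ≫ q.toHom = 1 → x ≫ g.toHom = 1) :
    ∃ h : EndAV.Hom B' Z, q ≫ h = g := by
  haveI := flat_isog q
  obtain ⟨H, _, _, _, i, hi, hk⟩ := AVDeg.exists_hopf_kernel q.toHom
  obtain ⟨h, hh, e⟩ := AVTors.GalSub.exists_fac i q.toHom hk g.toHom
    (hg _ i (by rw [hk.w, Hom.one_def]))
  haveI := hh
  exact ⟨EndAV.Hom.of h, EndAV.Hom.ext e⟩

theorem epi_isog : Epi q.toHom := by
  haveI := flat_isog q
  haveI : Epi q.toHom.left := Flat.epi_of_flat_of_surjective _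
  exact Over.epi_of_epi_left _

theorem leftComp_injective : Function.Injective (Preadditive.leftComp (CommGrp.mk Z) q) := by
  haveI := epi_isog q
  intro a b h
  exact EndAV.Hom.ext ((cancel_epi q.toHom).1 (congrArg EndAV.Hom.toHom h))

/-- The degree is the order of the kernel. -/
theorem finrank_eq_nu {H : Type u} [CommRing H] [Algebra k H] [Module.Finite k H] {i : sp k H ⟶ B}
    (hk : AlgGrp.IsKernel i q.toHom) : Module.finrank k H = AVNu.nu q.toHom := by
  haveI := flat_isog q
  obtain ⟨g, hg⟩ := AVTors.exists_dimNat B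
  exact AVDeg.finrank_eq_of_kernel hk fun y =>
    AVNu.finrank_eq_nu hg ((dim_eq q).trans hg) q.toHom inferInstance y

theorem nu_comp_isog {B'' : Over (Spec (CommRingCat.of k))} [GrpObj B''] [IsCommMonObj B''] [IsProper B''.hom]
    [GeometricallyIntegral B''.hom] (r : EndAV.Hom B' B'') :
    AVNu.nu (EndAV.Hom.toHom (q ≫ r)) = AVNu.nu q.toHom * AVNu.nu r.toHom := by
  obtain ⟨g, hg⟩ := AVTors.exists_dimNat B
  rw [EndAV.Hom.toHom_comp]
  exact AVNu.nu_comp hg ((dim_eq q).trans hg) q.toHom r.toHom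

theorem natCard_kerPts_le_nu {Ω : Type u} [Field Ω] [Algebra k Ω] [IsAlgClosed Ω] :
    Nat.card (AVTors.kerPts q.toHom Ω) ≤ AVNu.nu q.toHom := by
  obtain ⟨H, _, _, _, i, hi, hk⟩ := AVDeg.exists_hopf_kernel q.toHom
  obtain ⟨hfin, hle⟩ := natCard_pts_le (Ω := Ω) (k := k) H
  rw [← finrank_eq_nu q hk]
  refine le_trans ?_ hle
  haveI := hfin
  refine Nat.card_le_card_of_surjective
    (fun x => (⟨x ≫ i, by
      show (x ≫ i) ≫ q.toHom = 1
      rw [Category.assoc, hk.w, ← Category.assoc, toUnit_unique (x ≫ toUnit _) (toUnit _), Hom.one_def]⟩ :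
        AVTors.kerPts q.toHom Ω)) fun y => ?_
  obtain ⟨s, hs, -⟩ := hk.exists_lift y.1 (toUnit _) (by rw [show y.1 ≫ q.toHom = 1 from y.2, Hom.one_def])
  exact ⟨s, Subtype.ext hs⟩

/-- An isogeny factors through the part of its kernel killed by an endomorphism. -/
theorem exists_factor_sub (u : EndAV.End B) :
    ∃ (Q : Over (Spec (CommRingCat.of k))) (_ : GrpObj Q) (_ : IsCommMonObj Q) (_ : IsProper Q.hom)
      (_ : GeometricallyIntegral Q.hom) (q₁ : EndAV.Hom B Q) (q₂ : EndAV.Hom Q B'),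
      IsFinite q₁.toHom.left ∧ Surjective q₁.toHom.left ∧ IsFinite q₂.toHom.left ∧ Surjective q₂.toHom.left ∧
        q₁ ≫ q₂ = q ∧
        ∀ (T : Over (Spec (CommRingCat.of k))) (x : T ⟶ B), x ≫ q₁.toHom = 1 ↔ x ≫ q.toHom = 1 ∧ x ≫ u.toHom = 1 := by
  haveI := flat_isog q
  obtain ⟨H, _, _, _, i, hi, hk⟩ := AVDeg.exists_hopf_kernel q.toHom
  haveI := hi
  haveI : IsFinite (sp k H).hom := isFinite_sp H
  let w : sp k H ⟶ B := i ≫ u.toHom
  haveI : IsMonHom w := inferInstanceAs (IsMonHom (i ≫ u.toHom))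
  haveI : IsFinite w.left := by
    haveI : IsFinite (w.left ≫ B.hom) := by rw [Over.w w]; infer_instance
    exact IsFinite.of_comp w.left B.hom
  obtain ⟨H₁, _, _, _, j, hj, hk₁⟩ := AVDeg.exists_hopf_kernel w
  haveI := hj
  haveI : IsFinite (sp k H₁).hom := isFinite_sp H₁
  haveI : Mono η[B'].left := by
    haveI : Mono (η[B'].left ≫ B'.hom) := by
      rw [Over.w η[B']]
      exact inferInstanceAs (Mono (𝟙 (Spec (CommRingCat.of k))))
    exact mono_of_mono η[B'].left B'.hom
  haveI : Mono η[B].left := by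
    haveI : Mono (η[B].left ≫ B.hom) := by
      rw [Over.w η[B]]
      exact inferInstanceAs (Mono (𝟙 (Spec (CommRingCat.of k))))
    exact mono_of_mono η[B].left B.hom
  haveI : Mono η[B'] := Over.mono_of_mono_left _
  haveI : Mono η[B] := Over.mono_of_mono_left _
  haveI : Mono i := ⟨fun a b h => hk.hom_ext h (toUnit_unique _ _)⟩
  haveI : Mono j := ⟨fun a b h => hk₁.hom_ext h (toUnit_unique _ _)⟩
  haveI : Mono (j ≫ i) := mono_comp j i
  have hnormal : AlgGrp.IsNormalHom (j ≫ i) := fun T g n => ⟨n, by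
    rw [mul_comm g, _root_.mul_assoc, mul_inv_cancel, _root_.mul_one]⟩
  obtain ⟨Q, _, q₁, hQp, hQi, hq₁, hsur, hfl, hk'⟩ := AVTors.FiniteQuot.exists_quot (j ≫ i) hnormal
  haveI := hQp; haveI := hQi; haveI := hq₁; haveI := hsur; haveI := hfl
  haveI : IsCommMonObj Q := AVTors.ChowKernel.comm Q
  haveI : QuasiCompact q₁.left := by
    haveI : QuasiCompact (q₁.left ≫ Q.hom) := by rw [Over.w q₁]; infer_instance
    exact QuasiCompact.of_comp q₁.left Q.hom
  have hjw : (j ≫ i) ≫ u.toHom = 1 := by rw [Category.assoc, hk₁.w, Hom.one_def]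
  have hjq : (j ≫ i) ≫ q.toHom = 1 := by
    rw [Category.assoc, hk.w, ← Category.assoc, toUnit_unique (j ≫ toUnit _) (toUnit _), Hom.one_def]
  obtain ⟨q₂, hq₂, e⟩ := AVTors.GalSub.exists_fac (j ≫ i) q₁ hk' q.toHom hjq
  haveI := hq₂
  haveI : IsFinite (q₁ ≫ q₂).left := by rw [e]; infer_instance
  haveI : Surjective (q₁ ≫ q₂).left := by rw [e]; infer_instance
  haveI : IsSeparated q₂.left := by
    haveI : IsSeparated (q₂.left ≫ B'.hom) := by rw [Over.w q₂]; infer_instance
    exact IsSeparated.of_comp q₂.left B'.hom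
  haveI : IsFinite (q₁.left ≫ q₂.left) := by rw [← Over.comp_left]; infer_instance
  haveI : Surjective (q₁.left ≫ q₂.left) := by rw [← Over.comp_left]; infer_instance
  haveI hf₁ : IsFinite q₁.left := IsFinite.of_comp q₁.left q₂.left
  haveI hs₂ : Surjective q₂.left := Surjective.of_comp q₁.left q₂.left
  have hdQ : topologicalKrullDim Q.left = topologicalKrullDim B'.left :=
    (GrpSchLib.IsogSub.topologicalKrullDim_eq_of_isIntegralHom q₁.left).symm.trans (dim_eq q).symm
  have hf₂ : IsFinite q₂.left := (S19572.result k Q B' q₂ hdQ).1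
  refine ⟨Q, inferInstance, inferInstance, hQp, hQi, EndAV.Hom.of q₁, EndAV.Hom.of q₂, hf₁, hsur, hf₂, hs₂,
    EndAV.Hom.ext e, fun T x => ⟨fun hx => ?_, fun ⟨hxq, hxu⟩ => ?_⟩⟩
  · obtain ⟨s, hs, -⟩ := hk'.exists_lift x (toUnit _) (by rw [show x ≫ q₁ = 1 from hx, Hom.one_def])
    rw [← hs, Category.assoc, hjq, Category.assoc, hjw, MonObj.comp_one]
    exact ⟨MonObj.comp_one _, MonObj.comp_one _⟩
  · obtain ⟨s, hs, -⟩ := hk.exists_lift x (toUnit _) (by rw [hxq, Hom.one_def])
    obtain ⟨t, ht, -⟩ := hk₁.exists_lift s (toUnit _) (by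
      show s ≫ i ≫ u.toHom = _
      rw [← Category.assoc, hs, hxu, Hom.one_def])
    show x ≫ q₁ = 1
    rw [← hs, ← ht, Category.assoc t, Category.assoc t, hk'.w, ← Category.assoc,
      toUnit_unique (t ≫ toUnit _) (toUnit _), Hom.one_def]

end Groth.Agent.AVTate.PrimeField
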