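import Groth.Agent.AVTate.MinOrderIsog
import Mathlib.GroupTheory.Index

/-!
# The index of the Frobenius in the minimal central order
-/

set_option autoImplicit false
set_option linter.style.haveILetI false
set_option linter.unusedSectionVars false
set_option backward.isDefEq.respectTransparency false
set_option backward.isDefEq.respectTransparency.types false
set_option maxHeartbeats 2000000
set_option synthInstance.maxHeartbeats 400000

universe u

open CategoryTheory AlgebraicGeometry MonoidalCategory CartesianMonoidalCategory MonObj Polynomial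

noncomputable section

namespace Groth.Agent.AVTate.PrimeField

open AVTate.MinOrder

variable {k : Type u} [Field k]

/-- The order of the cokernel of precomposition. -/
def coker {B B' : Over (Spec (CommRingCat.of k))} [GrpObj B] [IsCommMonObj B] [GrpObj B'] [IsCommMonObj B']
    (Aw : Over (Spec (CommRingCat.of k))) [GrpObj Aw] [IsCommMonObj Aw] (q : EndAV.Hom B B') : ℕ :=
  (Preadditive.leftComp (CommGrp.mk Aw) q).range.index

theorem coker_comp {B B' B'' Aw : Over (Spec (CommRingCat.of k))} [GrpObj B] [IsCommMonObj B] [GrpObj B']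
    [IsCommMonObj B'] [GrpObj B''] [IsCommMonObj B''] [GrpObj Aw] [IsCommMonObj Aw] (q : EndAV.Hom B B')
    (r : EndAV.Hom B' B'') (hq : Function.Injective (Preadditive.leftComp (CommGrp.mk Aw) q)) :
    coker Aw (q ≫ r) = coker Aw r * coker Aw q := by
  unfold coker
  rw [← AddSubgroup.index_map_of_injective _ hq]
  rw [AddMonoidHom.map_range]
  congr 2

theorem index_range_nsmul {M : Type*} [AddCommGroup M] [Module.Free ℤ M] [Module.Finite ℤ M] (n : ℕ) [NeZero n] :
    (nsmulAddMonoidHom n : M →+ M).range.index = n ^ Module.finrank ℤ M := by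
  let b := Module.finBasis ℤ M
  let f : M →+ (Fin (Module.finrank ℤ M) → ZMod n) :=
    AddMonoidHom.mk' (fun m i => (b.repr m i : ZMod n)) fun a c => funext fun i => by simp
  have hf : Function.Surjective f := fun v => by
    choose z hz using fun i => ZMod.intCast_surjective (v i)
    refine ⟨b.equivFun.symm z, funext fun i => ?_⟩
    show ((b.repr (b.equivFun.symm z)) i : ZMod n) = v i
    rw [← Module.Basis.equivFun_apply, LinearEquiv.apply_symm_apply, hz]
  have hk : f.ker = (nsmulAddMonoidHom n : M →+ M).range := by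
    ext m
    constructor
    · intro h
      have h' : ∀ i, ∃ c : ℤ, b.repr m i = (n : ℤ) * c := fun i =>
        (ZMod.intCast_zmod_eq_zero_iff_dvd _ n).1 (congrFun h i)
      choose c hc using h'
      refine ⟨b.equivFun.symm c, b.ext_elem fun i => ?_⟩
      rw [nsmulAddMonoidHom_apply, map_nsmul, Finsupp.smul_apply, ← Module.Basis.equivFun_apply,
        LinearEquiv.apply_symm_apply, hc, nsmul_eq_mul]
    · rintro ⟨x, rfl⟩
      refine funext fun i => ?_
      show (b.repr (n • x) i : ZMod n) = 0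
      rw [map_nsmul, Finsupp.smul_apply, nsmul_eq_mul, Int.cast_mul, Int.cast_natCast, ZMod.natCast_self, zero_mul]
  rw [← hk, AddSubgroup.index_ker, AddMonoidHom.range_eq_top.2 hf, AddSubgroup.card_top, Nat.card_fun, Nat.card_zmod,
    Nat.card_fin]

theorem coker_nsmul {B Aw : Over (Spec (CommRingCat.of k))} [GrpObj B] [IsCommMonObj B] [GrpObj Aw] [IsCommMonObj Aw]
    [Module.Free ℤ (EndAV.Hom B Aw)] [Module.Finite ℤ (EndAV.Hom B Aw)] (n : ℕ) [NeZero n] :
    coker Aw (n • 𝟙 (CommGrp.mk B)) = n ^ Module.finrank ℤ (EndAV.Hom B Aw) := by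
  rw [← index_range_nsmul n]
  unfold coker
  congr 2
  refine AddMonoidHom.ext fun φ => ?_
  show (n • 𝟙 (CommGrp.mk B)) ≫ φ = n • φ
  rw [Preadditive.nsmul_comp, Category.id_comp]

theorem evenRoot {p g : ℕ} : Real.sqrt p ^ (2 * g) = (p : ℝ) ^ g := by
  rw [pow_mul, Real.sq_sqrt (Nat.cast_nonneg p)]

section MinOrder

variable [Finite k] {p : ℕ} [hp : Fact p.Prime] {J : Type} [Fintype J] {K : J → Type} [∀ j, Field (K j)]
  [∀ j, CharZero (K j)] {ϖ : ∀ j, K j} {Aw : Over (Spec (CommRingCat.of k))} [GrpObj Aw] [IsCommMonObj Aw]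
  [IsProper Aw.hom] [GeometricallyIntegral Aw.hom] {πw : Aw ⟶ Aw} [IsMonHom πw]
  (hint : ∀ j, IsIntegral ℤ (ϖ j)) (hinj : ∀ i j, minpoly ℤ (ϖ i) = minpoly ℤ (ϖ j) → i = j)
  (hweil : ∀ j, ∀ z ∈ (minpoly ℤ (ϖ j)).aroots ℂ, ‖z‖ = Real.sqrt p)
  (ρ : (gens p ϖ).range ≃+* EndAV.End Aw)
  (hρ : ρ ⟨gens p ϖ (MvPolynomial.X 0), AlgHom.mem_range_self _ _⟩ = EndAV.End.of πw) (hAw : IsFrob Aw πw)

include hint hweil in
/-- The constant coefficient of the product of the minimal polynomials. -/
theorem natAbs_coeff_zero {g : ℕ} (hd : (Pw ϖ).natDegree = 2 * g) : ((Pw ϖ).coeff 0).natAbs = p ^ g := by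
  have hP : (Pw ϖ).Monic := pw_monic hint
  let Q := (Pw ϖ).map (algebraMap ℤ ℂ)
  have hQ : Q.Monic := hP.map _
  have hroot : ∀ z ∈ Q.roots, ‖z‖ = Real.sqrt p := fun z hz => by
    rw [Polynomial.mem_roots hQ.ne_zero] at hz
    have h : ∏ j, Polynomial.aeval z (minpoly ℤ (ϖ j)) = 0 := by
      rw [← map_prod, Polynomial.aeval_def, ← Polynomial.eval_map]
      exact hz
    obtain ⟨j, -, hj⟩ := Finset.prod_eq_zero_iff.1 h
    exact hweil j z (Polynomial.mem_aroots.2 ⟨(minpoly.monic (hint j)).ne_zero, hj⟩)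
  have hsplit : Q.Splits := IsAlgClosed.splits Q
  have hcard : Q.roots.card = 2 * g := by
    rw [← hd, ← hP.natDegree_map (algebraMap ℤ ℂ)]
    exact hsplit.natDegree_eq_card_roots.symm
  have hc : ‖Q.coeff 0‖ = (p : ℝ) ^ g := by
    rw [hsplit.coeff_zero_eq_leadingCoeff_mul_prod_roots, hQ.leadingCoeff, _root_.mul_one, norm_mul, norm_pow, norm_neg,
      norm_one, one_pow, _root_.one_mul]
    have hmap : (Q.roots.map fun z => ‖z‖) = Multiset.replicate (2 * g) (Real.sqrt p) := by
      rw [Multiset.eq_replicate]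
      exact ⟨by rw [Multiset.card_map, hcard], fun b hb => by
        obtain ⟨z, hz, rfl⟩ := Multiset.mem_map.1 hb
        exact hroot z hz⟩
    rw [← normHom_apply, map_multiset_prod]
    show (Q.roots.map fun z => ‖z‖).prod = _
    rw [hmap, Multiset.prod_replicate, evenRoot]
  rw [Polynomial.coeff_map, eq_intCast, Complex.norm_intCast] at hc
  have h2 : (((Pw ϖ).coeff 0).natAbs : ℝ) = ((p ^ g : ℕ) : ℝ) := by
    rw [Nat.cast_natAbs, Int.cast_abs, hc]
    push_cast
    rfl
  exact_mod_cast h2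

include hint hinj hρ

theorem pw_dvd_of_aeval {q : ℤ[X]} (hq : Polynomial.aeval (EndAV.End.of πw) q = 0) : Pw ϖ ∣ q := by
  rw [aeval_frob ρ hρ, EmbeddingLike.map_eq_zero_iff, aeval_gen_eq_zero] at hq
  exact (Polynomial.map_dvd_map _ (RingHom.injective_int _) (pw_monic hint)).1 (MinOrder.pw_dvd hint hinj hq)

include hweil hAw

/-- The Frobenius has index `p ^ g` in the endomorphism ring. -/
theorem coker_frob {g : ℕ} (hg : topologicalKrullDim Aw.left = g) :
    coker Aw (EndAV.Hom.of πw) = p ^ g := by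
  obtain ⟨hfree, hfin, hr⟩ := finrank_hom_eq hint hinj ρ hρ hAw hAw (aeval_pw ρ hρ) hg
  haveI : Module.Free ℤ (EndAV.End Aw) := hfree
  haveI : Module.Finite ℤ (EndAV.End Aw) := hfin
  replace hr : Module.finrank ℤ (EndAV.End Aw) = 2 * g := hr
  let Ω := AlgebraicClosure k
  haveI : IsAlgClosed Ω := IsAlgClosure.isAlgClosed k
  obtain ⟨l, hlp, hl⟩ := AVHomLattice.exists_prime k
  haveI := Fact.mk hlp
  obtain ⟨e⟩ := AVTors.exists_linearEquiv_pt Ω Aw hg l hl
  haveI : Module.Free ℤ_[l] (AbDual.TateMod Aw l (SGA7.pt Ω)) := Module.Free.of_equiv e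
  haveI : Module.Finite ℤ_[l] (AbDual.TateMod Aw l (SGA7.pt Ω)) := Module.Finite.equiv e
  have hd : (Pw ϖ).natDegree = 2 * g := by
    rw [natDegree_pw (Ω := Ω) (l := l) hint hinj ρ hρ hl hAw, ← e.finrank_eq, Module.finrank_fin_fun]
  let f : ℤ[X] →+ EndAV.End Aw :=
    { toFun := fun q => Polynomial.aeval (EndAV.End.of πw) q
      map_zero' := map_zero _
      map_add' := map_add _ }
  let L : EndAV.End Aw →+ EndAV.End Aw := Preadditive.leftComp (CommGrp.mk Aw) (EndAV.Hom.of πw)
  have hLf : ∀ q, L (f q) = f (q * X) := fun q => by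
    show (Polynomial.aeval (EndAV.End.of πw) q : EndAV.End Aw) * EndAV.End.of πw = Polynomial.aeval (EndAV.End.of πw) (q * X)
    rw [map_mul, Polynomial.aeval_X]
  have hker : ∀ q, f q = 0 → Pw ϖ ∣ q := fun q hq => pw_dvd_of_aeval hint hinj ρ hρ hq
  have hp0 : (Pw ϖ).coeff 0 ≠ 0 := fun h => by
    have := natAbs_coeff_zero hint hweil hd
    rw [h, Int.natAbs_zero] at this
    exact (pow_ne_zero g hp.out.ne_zero) this.symm
  have hS : f.range.index ≠ 0 := by
    have hli : LinearIndependent ℤ fun i : Fin (2 * g) => f (X ^ (i : ℕ)) := by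
      rw [Fintype.linearIndependent_iff]
      intro c hc i
      let q : ℤ[X] := ∑ j : Fin (2 * g), C (c j) * X ^ (j : ℕ)
      have hfq : f q = 0 := by
        rw [← hc, map_sum]
        refine Finset.sum_congr rfl fun j _ => ?_
        rw [← map_zsmul, Polynomial.smul_eq_C_mul]
      have hq0 : q = 0 := by
        refine Polynomial.eq_zero_of_dvd_of_degree_lt (hker q hfq) ?_
        rw [Polynomial.degree_eq_natDegree (pw_monic hint).ne_zero, hd]
        refine (Polynomial.degree_sum_le _ _).trans_lt ((Finset.sup_lt_iff (WithBot.bot_lt_coe _)).2 fun j _ => ?_)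
        exact (Polynomial.degree_C_mul_X_pow_le _ _).trans_lt (WithBot.coe_lt_coe.2 j.2)
      have := congrArg (fun r : ℤ[X] => r.coeff i) hq0
      simpa [q, coeff_C_mul_X_pow, Fin.val_inj] using this
    let S : Submodule ℤ (EndAV.End Aw) := f.range.toIntSubmodule
    have h1 : 2 * g ≤ Module.finrank ℤ S := by
      have h2 : LinearIndependent ℤ fun i : Fin (2 * g) => (⟨f (X ^ (i : ℕ)), _, rfl⟩ : S) :=
        LinearIndependent.of_comp S.subtype hli
      simpa using h2.fintype_card_le_finrank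
    have h3 := Submodule.finrank_quotient_add_finrank S
    have hT : Module.IsTorsion ℤ (EndAV.End Aw ⧸ S) := Module.finrank_eq_zero_iff_isTorsion.1 (by omega)
    haveI : Finite (EndAV.End Aw ⧸ f.range) := Module.finite_of_fg_torsion (EndAV.End Aw ⧸ S) hT
    exact AddSubgroup.index_ne_zero_of_finite
  have hLinj : Function.Injective L := (injective_iff_map_eq_zero L).2 fun φ hφ => by
    let C₀ := (Pw ϖ).coeff 0
    obtain ⟨G, hG⟩ : X ∣ Pw ϖ - C C₀ := X_dvd_iff.2 (by rw [coeff_sub, coeff_C_zero, sub_self])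
    have h0 : (Polynomial.aeval (EndAV.End.of πw) G) * EndAV.End.of πw = -(C₀ : EndAV.End Aw) := by
      have h := congrArg (Polynomial.aeval (EndAV.End.of πw)) hG
      rw [map_sub, aeval_pw ρ hρ, zero_sub, aeval_C, eq_intCast, mul_comm X G, map_mul, aeval_X] at h
      exact h.symm
    have h1 : φ * ((Polynomial.aeval (EndAV.End.of πw) G) * EndAV.End.of πw) = 0 := by
      have hc : ∀ a b : EndAV.End Aw, a * b = b * a := fun a b => by
        obtain ⟨u, rfl⟩ := ρ.surjective a
        obtain ⟨v, rfl⟩ := ρ.surjective b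
        rw [← map_mul, ← map_mul, _root_.mul_comm]
      rw [hc (Polynomial.aeval _ G), ← _root_.mul_assoc, show φ * EndAV.End.of πw = 0 from hφ, zero_mul]
    rw [h0, mul_neg, neg_eq_zero, ← zsmul_eq_mul' φ C₀] at h1
    exact (smul_eq_zero.1 h1).resolve_left hp0
  have e1 := f.range.index_map_of_injective hLinj
  have hle : f.range.map L ≤ f.range := by
    rintro _ ⟨_, ⟨q, rfl⟩, rfl⟩
    exact ⟨q * X, (hLf q).symm⟩
  rw [← AddSubgroup.relIndex_mul_index hle, _root_.mul_comm (f.range.index)] at e1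
  have e2 := Nat.eq_of_mul_eq_mul_right (Nat.pos_of_ne_zero hS) e1
  show L.range.index = _
  rw [← e2, ← AddSubgroup.index_comap, ← natAbs_coeff_zero hint hweil hd]
  let n := ((Pw ϖ).coeff 0).natAbs
  let χ : ℤ[X] →+ ZMod n :=
    AddMonoidHom.mk' (fun q => ((q.coeff 0 : ℤ) : ZMod n)) fun a b => by simp
  have hχ : Function.Surjective χ := fun z => by
    obtain ⟨m, rfl⟩ := ZMod.intCast_surjective z
    exact ⟨C m, by simp [χ]⟩
  have hk : (f.range.map L).comap f = χ.ker := by
    ext q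
    rw [AddSubgroup.mem_comap, AddMonoidHom.mem_ker]
    show _ ↔ ((q.coeff 0 : ℤ) : ZMod n) = 0
    rw [ZMod.intCast_zmod_eq_zero_iff_dvd, Int.natAbs_dvd]
    constructor
    · rintro ⟨_, ⟨s, rfl⟩, hs⟩
      rw [hLf] at hs
      obtain ⟨t, ht⟩ := hker (q - s * X) (by rw [map_sub, hs, sub_self])
      have := congrArg (fun r : ℤ[X] => r.coeff 0) ht
      simp only [coeff_sub, mul_coeff_zero, coeff_X_zero, mul_zero, sub_zero] at this
      exact ⟨t.coeff 0, this⟩
    · rintro ⟨t, ht⟩
      obtain ⟨s, hs⟩ : X ∣ q - Pw ϖ * C t := X_dvd_iff.2 (by rw [coeff_sub, mul_coeff_zero, coeff_C_zero, ht, sub_self])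
      refine ⟨f s, ⟨s, rfl⟩, ?_⟩
      rw [hLf, _root_.mul_comm s X, ← hs]
      show Polynomial.aeval (EndAV.End.of πw) (q - Pw ϖ * C t) = Polynomial.aeval (EndAV.End.of πw) q
      rw [map_sub, map_mul, aeval_pw ρ hρ, zero_mul, sub_zero]
  rw [hk, AddSubgroup.index_ker, AddMonoidHom.range_eq_top.2 hχ, AddSubgroup.card_top, Nat.card_zmod]

end MinOrder

end Groth.Agent.AVTate.PrimeField
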