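import Groth.Agent.AVTate.PrimeField.Kernel
import Groth.Agent.AVDegLib.Tangent
import Groth.Agent.S4110
import Mathlib.RingTheory.MvPolynomial.Ideal

/-!
# Tangent vectors of subgroups killed by the Frobenius
-/

set_option autoImplicit false
set_option linter.style.haveILetI false
set_option linter.unusedSectionVars false
set_option backward.isDefEq.respectTransparency false
set_option backward.isDefEq.respectTransparency.types false
set_option maxHeartbeats 2000000
set_option synthInstance.maxHeartbeats 400000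

universe u

open CategoryTheory CategoryTheory.Limits AlgebraicGeometry MonoidalCategory CartesianMonoidalCategory MonObj
open Groth.Agent.GrpSchLib Groth.Agent.GrpSchLib.AffineHopf

noncomputable section

namespace Groth.Agent.AVTate.PrimeField

variable {k : Type u} [Field k]

/-- The dual numbers as a scheme over the base. -/
abbrev DN (k : Type u) [Field k] : Over (Spec (CommRingCat.of k)) := sp k (TrivSqZeroExt k k)

/-- The closed point of the dual numbers. -/
abbrev DNpt (k : Type u) [Field k] : sp k k ⟶ DN k := spMap (TrivSqZeroExt.fstHom k k k)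

/-- The tangent vectors at the unit. -/
def tan (A : Over (Spec (CommRingCat.of k))) [GrpObj A] : Subgroup (DN k ⟶ A) where
  carrier := {t | DNpt k ≫ t = 1}
  one_mem' := MonObj.comp_one _
  mul_mem' := fun {a b} ha hb => by
    show DNpt k ≫ (a * b) = 1
    rw [MonObj.comp_mul, show DNpt k ≫ a = 1 from ha, show DNpt k ≫ b = 1 from hb, _root_.one_mul]
  inv_mem' := fun {a} ha => by
    show DNpt k ≫ a⁻¹ = 1
    rw [GrpObj.comp_inv, show DNpt k ≫ a = 1 from ha, inv_one]

theorem mem_tan {A : Over (Spec (CommRingCat.of k))} [GrpObj A] {t : DN k ⟶ A} : t ∈ tan A ↔ DNpt k ≫ t = 1 := Iff.rfl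

theorem tan_pow_eq_one {A : Over (Spec (CommRingCat.of k))} [GrpObj A] [IsProper A.hom] [GeometricallyIntegral A.hom]
    (p : ℕ) [CharP k p] {t : DN k ⟶ A} (ht : t ∈ tan A) : t ^ p = 1 :=
  AVDegLib.pow_eq_one (K := k) (X := A) k p t ht

theorem finrank_truncated (p d : ℕ) [Fact p.Prime] :
    Module.finrank k (MvPolynomial (Fin d) k ⧸
      Ideal.span (Set.range fun i : Fin d => (MvPolynomial.X i : MvPolynomial (Fin d) k) ^ p)) = p ^ d := by
  classical
  let J := Ideal.span (Set.range fun i : Fin d => (MvPolynomial.X i : MvPolynomial (Fin d) k) ^ p)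
  let L : ((Fin d → Fin p) →₀ k) →ₗ[k] MvPolynomial (Fin d) k ⧸ J :=
    (Ideal.Quotient.mkₐ k J).toLinearMap ∘ₗ S4110.redPoly p k
  have hL : Function.Bijective L := by
    refine ⟨(injective_iff_map_eq_zero L).2 fun l hl => S4110.redPoly_injective p ?_, fun y => ?_⟩
    · rw [map_zero]
      by_contra hne
      obtain ⟨e, he⟩ := Finset.nonempty_iff_ne_empty.2 (MvPolynomial.support_eq_empty.not.2 hne)
      have hm : S4110.redPoly p k l ∈ J := Ideal.Quotient.eq_zero_iff_mem.1 hl
      have hJ : J = Ideal.span ((fun s => MvPolynomial.monomial s (1 : k)) '' Set.range fun i : Fin d => Finsupp.single i p) := by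
        show Ideal.span _ = _
        rw [← Set.range_comp]
        congr 1
        exact congrArg Set.range (funext fun i => MvPolynomial.X_pow_eq_monomial)
      rw [hJ, MvPolynomial.mem_ideal_span_monomial_image] at hm
      obtain ⟨_, ⟨i, rfl⟩, hi⟩ := hm e he
      have h1 := hi i
      rw [Finsupp.single_eq_same] at h1
      exact absurd (S4110.redPoly_support p l e he i) (not_lt.2 h1)
    · obtain ⟨f, rfl⟩ := Ideal.Quotient.mk_surjective (I := J) y
      obtain ⟨l, hl⟩ := S4110.exists_redPoly p (R := k) f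
      exact ⟨l, (Ideal.Quotient.eq.2 hl).symm⟩
  rw [← (LinearEquiv.ofBijective L hL).finrank_eq, Module.finrank_finsupp_self, Fintype.card_fun, Fintype.card_fin,
    Fintype.card_fin]

variable [Finite k] {p : ℕ} [hp : Fact p.Prime] (hk : Nat.card k = p)

include hk

theorem pow_card_eq (c : k) : c ^ p = c := by
  haveI := Fintype.ofFinite k
  rw [← hk, Nat.card_eq_fintype_card]
  exact FiniteField.pow_card c

/-- The tangent vectors of a group scheme of height one, and its order. -/
theorem exists_card_tangents (H : Type u) [CommRing H] [HopfAlgebra k H] [Module.Finite k H]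
    (h1 : ∀ a : H, a ^ p = algebraMap k H (Bialgebra.counitAlgHom k H a)) :
    ∃ n, Module.finrank k H = p ^ n ∧ Finite (tan (sp k H)) ∧ Nat.card (tan (sp k H)) = p ^ n := by
  haveI := charP hk
  haveI : Module.Flat k H := inferInstance
  haveI : Algebra.FinitePresentation k H := Algebra.FinitePresentation.of_finiteType.1 inferInstance
  obtain ⟨n, ⟨e⟩⟩ := S4110.result p k H fun a ha => by rw [h1, ha, map_zero]
  have hfr : Module.finrank k H = p ^ n := e.toLinearEquiv.finrank_eq.trans (finrank_truncated p n)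
  have huniq : ∀ f : H →ₐ[k] k, f = Bialgebra.counitAlgHom k H := fun f => AlgHom.ext fun a => by
    have h := congrArg f (h1 a)
    rw [map_pow, AlgHom.commutes, pow_card_eq hk] at h
    simpa using h
  have htan : ∀ g : H →ₐ[k] TrivSqZeroExt k k, spMap g ∈ tan (sp k H) := fun g => by
    rw [mem_tan, spMap_comp, huniq ((TrivSqZeroExt.fstHom k k k).comp g)]
    rw [spMap_eq_mapMulEquiv]
    refine Eq.trans ?_ (map_one Spec.mapMulEquiv)
    congr 1
  let E : (H →ₐ[k] TrivSqZeroExt k k) ≃ tan (sp k H) :=
    Equiv.ofBijective (fun g => ⟨spMap g, htan g⟩) ⟨fun g g' h => spMap_injective (congrArg Subtype.val h),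
      fun t => by
        obtain ⟨g, hg⟩ := exists_eq_spMap t.1
        exact ⟨g, Subtype.ext hg.symm⟩⟩
  let J := Ideal.span (Set.range fun i : Fin n => (MvPolynomial.X i : MvPolynomial (Fin n) k) ^ p)
  haveI : CharP (TrivSqZeroExt k k) p := charP_of_injective_algebraMap (algebraMap k (TrivSqZeroExt k k)).injective p
  have hpow : ∀ v : TrivSqZeroExt k k, v ^ p = algebraMap k _ v.fst := fun v => by
    refine TrivSqZeroExt.ext ?_ ?_
    · rw [TrivSqZeroExt.fst_pow, pow_card_eq hk]; rfl
    · rw [TrivSqZeroExt.snd_pow, ← Nat.cast_smul_eq_nsmul k, CharP.cast_eq_zero, zero_smul]; simp [TrivSqZeroExt.algebraMap_eq_inl]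
  let G : (MvPolynomial (Fin n) k ⧸ J →ₐ[k] TrivSqZeroExt k k) ≃ (Fin n → k) :=
    { toFun := fun f i => (f (Ideal.Quotient.mk J (MvPolynomial.X i))).snd
      invFun := fun v => Ideal.Quotient.liftₐ J (MvPolynomial.aeval fun i => TrivSqZeroExt.inr (v i)) fun a ha =>
        S4110.aeval_mem_span_eq_zero p (fun i => by rw [hpow, TrivSqZeroExt.fst_inr, map_zero]) ha
      left_inv := fun f => Ideal.Quotient.algHom_ext k (MvPolynomial.algHom_ext fun i => by
        show MvPolynomial.aeval _ (MvPolynomial.X i) = _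
        rw [MvPolynomial.aeval_X]
        refine TrivSqZeroExt.ext ?_ ?_
        · have h := hpow (f (Ideal.Quotient.mk J (MvPolynomial.X i)))
          rw [← map_pow, ← map_pow, Ideal.Quotient.eq_zero_iff_mem.2
            (Ideal.subset_span ⟨i, rfl⟩ : MvPolynomial.X i ^ p ∈ J), map_zero] at h
          rw [TrivSqZeroExt.fst_inr]
          exact ((algebraMap k (TrivSqZeroExt k k)).injective (h.symm.trans (map_zero _).symm)).symm
        · rw [TrivSqZeroExt.snd_inr]; rfl)
      right_inv := fun v => funext fun i => by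
        show ((MvPolynomial.aeval (R := k) (fun i => (TrivSqZeroExt.inr (v i) : TrivSqZeroExt k k))) (MvPolynomial.X i)).snd = v i
        rw [MvPolynomial.aeval_X, TrivSqZeroExt.snd_inr] }
  let T : tan (sp k H) ≃ (Fin n → k) := E.symm.trans ((AlgEquiv.arrowCongr e AlgEquiv.refl).trans G)
  refine ⟨n, hfr, Finite.of_equiv _ T.symm, ?_⟩
  rw [Nat.card_congr T, Nat.card_fun, Nat.card_fin, hk]

variable {A : Over (Spec (CommRingCat.of k))} [GrpObj A] [IsCommMonObj A] [IsProper A.hom]
  [GeometricallyIntegral A.hom] {π : A ⟶ A} [IsMonHom π] (hπ : IsFrob A π)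

include hπ

theorem pow_eq_of_killed {H : Type u} [CommRing H] [HopfAlgebra k H] [Module.Finite k H] (i : sp k H ⟶ A) [IsMonHom i]
    [Mono i] (hi : i ≫ π = 1) (a : H) : a ^ p = algebraMap k H (Bialgebra.counitAlgHom k H a) := by
  haveI : Nontrivial H := (Bialgebra.counitAlgHom k H).toRingHom.domain_nontrivial
  obtain ⟨φ, hφ⟩ := exists_frobPow hk H 1
  have h := comp_frobPow hk hπ 1 i φ hφ
  rw [pow_one] at h
  have h1 : spMap φ ≫ i = (1 : sp k H ⟶ sp k H) ≫ i := by
    rw [MonObj.one_comp, ← hi]
    exact h.symm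
  rw [cancel_mono, ← AVTors.FrobKilled.spMap_counit] at h1
  have := AlgHom.congr_fun (spMap_injective h1) a
  rw [hφ, pow_one] at this
  exact this

/-- A subgroup killed by the Frobenius has as many tangent vectors as its order. -/
theorem natCard_tan_of_killed {H : Type u} [CommRing H] [HopfAlgebra k H] [Module.Finite k H] (i : sp k H ⟶ A)
    [IsMonHom i] [Mono i] (hi : i ≫ π = 1) : Finite (tan (sp k H)) ∧ Nat.card (tan (sp k H)) = Module.finrank k H := by
  obtain ⟨n, h1, h2, h3⟩ := exists_card_tangents hk H (pow_eq_of_killed hk hπ i hi)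
  exact ⟨h2, h3.trans h1.symm⟩

/-- A homomorphism killing the tangent vectors of a subgroup killed by the Frobenius kills the subgroup. -/
theorem comp_eq_one_of_tan {H : Type u} [CommRing H] [HopfAlgebra k H] [Module.Finite k H] (i : sp k H ⟶ A)
    [IsMonHom i] [Mono i] (hi : i ≫ π = 1) {Z : Over (Spec (CommRingCat.of k))} [GrpObj Z] [IsCommMonObj Z]
    [IsSeparated Z.hom] (u : sp k H ⟶ Z) [IsMonHom u] (hu : ∀ t ∈ tan (sp k H), t ≫ u = 1) : u = 1 := by
  haveI := isFinite_sp (k := k) H
  haveI : IsFinite u.left := by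
    haveI : IsFinite (u.left ≫ Z.hom) := by rw [Over.w u]; infer_instance
    exact IsFinite.of_comp u.left Z.hom
  obtain ⟨H', _, _, _, j, hj, hk'⟩ := AVDeg.exists_hopf_kernel u
  haveI := hj
  have hsq : IsPullback j.left (sp k H').hom u.left η[Z].left := hk'.map (Over.forget _)
  haveI : IsClosedImmersion η[Z].left := by
    haveI : IsClosedImmersion (η[Z].left ≫ Z.hom) := by
      rw [Over.w η[Z]]
      exact inferInstanceAs (IsClosedImmersion (𝟙 (Spec (CommRingCat.of k))))
    exact IsClosedImmersion.of_comp η[Z].left Z.hom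
  haveI : IsClosedImmersion j.left := MorphismProperty.of_isPullback (P := @IsClosedImmersion) hsq.flip inferInstance
  haveI : Mono j := Over.mono_of_mono_left j
  haveI : Mono (j ≫ i) := mono_comp j i
  have hji : (j ≫ i) ≫ π = 1 := by rw [Category.assoc, hi, MonObj.comp_one]
  obtain ⟨h2', hc'⟩ := natCard_tan_of_killed hk hπ (j ≫ i) hji
  obtain ⟨h2, hc⟩ := natCard_tan_of_killed hk hπ i hi
  let T : tan (sp k H') → tan (sp k H) := fun t => ⟨t.1 ≫ j, by
    rw [mem_tan, ← Category.assoc, show DNpt k ≫ t.1 = 1 from t.2, MonObj.one_comp]⟩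
  have hT : Function.Bijective T := by
    refine ⟨fun a b h => Subtype.ext ((cancel_mono j).1 (congrArg Subtype.val h)), fun t => ?_⟩
    obtain ⟨s, hs, -⟩ := hk'.exists_lift t.1 (toUnit _) (by rw [hu t.1 t.2, Hom.one_def])
    refine ⟨⟨s, (cancel_mono j).1 ?_⟩, Subtype.ext hs⟩
    rw [Category.assoc, hs, show DNpt k ≫ t.1 = 1 from t.2, MonObj.one_comp]
  have hfr : Module.finrank k H' = Module.finrank k H := by rw [← hc', ← hc, Nat.card_eq_of_bijective T hT]
  obtain ⟨f, hf⟩ := exists_eq_spMap j
  haveI : IsClosedImmersion (Spec.map (CommRingCat.ofHom f.toRingHom)) := by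
    have : j.left = Spec.map (CommRingCat.ofHom f.toRingHom) := by rw [hf]; rfl
    exact this ▸ (inferInstance : IsClosedImmersion j.left)
  have hfs : Function.Surjective f := by
    have hs := (IsClosedImmersion.isAffine_surjective_of_isAffine (f := Spec.map (CommRingCat.ofHom f.toRingHom))).2
    intro y
    obtain ⟨x, hx⟩ := hs ((Scheme.ΓSpecIso (CommRingCat.of H')).inv.hom y)
    refine ⟨(Scheme.ΓSpecIso (CommRingCat.of H)).hom.hom x, ?_⟩
    show ((Scheme.ΓSpecIso (CommRingCat.of H)).hom ≫ CommRingCat.ofHom f.toRingHom).hom x = y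
    rw [← Scheme.ΓSpecIso_naturality, CommRingCat.comp_apply, hx, ← CommRingCat.comp_apply, Iso.inv_hom_id]
    rfl
  have hfb : Function.Bijective f := by
    haveI := h2
    exact ⟨(LinearMap.injective_iff_surjective_of_finrank_eq_finrank hfr.symm).2
      (show Function.Surjective f.toLinearMap from hfs), hfs⟩
  let fe : H ≃ₐ[k] H' := AlgEquiv.ofBijective f hfb
  have hinv : spMap (fe.symm : H' →ₐ[k] H) ≫ j = 𝟙 _ := by
    rw [hf, spMap_comp, ← spMap_id]
    congr 1
    exact AlgHom.ext fun a => fe.symm_apply_apply a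
  rw [← Category.id_comp u, ← hinv, Category.assoc, hk'.w, ← Category.assoc, toUnit_unique (_ ≫ toUnit _) (toUnit _),
    Hom.one_def]

end Groth.Agent.AVTate.PrimeField
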