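import Groth.Agent.AVTate.PrimeField.Alg
import Groth.Agent.AVTate.PrimeField.Order
import Groth.Agent.AVTate.PrimeField.Factor
import Groth.Agent.AVTate.PrimeField.Tangent

/-!
# The tangent space and the degree for the minimal central order
-/

set_option autoImplicit false
set_option linter.style.haveILetI false
set_option linter.unusedSectionVars false
set_option backward.isDefEq.respectTransparency false
set_option backward.isDefEq.respectTransparency.types false
set_option maxHeartbeats 2000000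
set_option synthInstance.maxHeartbeats 400000

universe u

open CategoryTheory AlgebraicGeometry MonoidalCategory CartesianMonoidalCategory MonObj
open Groth.Agent.GrpSchLib.AffineHopf

noncomputable section

namespace Groth.Agent.AVTate.PrimeField

open AVTate.MinOrder

variable {k : Type u} [Field k]

/-- The action of the endomorphisms on the tangent vectors. -/
def tanRep (A : Over (Spec (CommRingCat.of k))) [GrpObj A] [IsCommMonObj A] :
    EndAV.End A →+* AddMonoid.End (Additive (tan A)) where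
  toFun u := AddMonoidHom.mk' (fun t => Additive.ofMul ⟨t.toMul.1 ≫ u.toHom, by
      rw [mem_tan, ← Category.assoc, mem_tan.1 t.toMul.2, MonObj.one_comp]⟩)
    fun s t => congrArg Additive.ofMul (Subtype.ext (MonObj.mul_comp _ _ u.toHom))
  map_one' := AddMonoidHom.ext fun t => congrArg Additive.ofMul (Subtype.ext (by
    show t.toMul.1 ≫ (1 : EndAV.End A).toHom = t.toMul.1
    rw [EndAV.End.toHom_one, Category.comp_id]))
  map_mul' u v := AddMonoidHom.ext fun t => congrArg Additive.ofMul (Subtype.ext (by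
    show t.toMul.1 ≫ (u * v).toHom = (t.toMul.1 ≫ v.toHom) ≫ u.toHom
    rw [EndAV.End.toHom_mul, Category.assoc]))
  map_zero' := AddMonoidHom.ext fun t => congrArg Additive.ofMul (Subtype.ext (by
    show t.toMul.1 ≫ (0 : EndAV.End A).toHom = 1
    rw [EndAV.End.toHom_zero, MonObj.comp_one]))
  map_add' u v := AddMonoidHom.ext fun t => congrArg Additive.ofMul (Subtype.ext (by
    show t.toMul.1 ≫ (u + v).toHom = (t.toMul.1 ≫ u.toHom) * (t.toMul.1 ≫ v.toHom)
    rw [EndAV.End.toHom_add, MonObj.comp_mul]))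

theorem tanRep_apply (A : Over (Spec (CommRingCat.of k))) [GrpObj A] [IsCommMonObj A] (u : EndAV.End A)
    (t : Additive (tan A)) : (tanRep A u t).toMul.1 = t.toMul.1 ≫ u.toHom := rfl

/-- The action of the endomorphisms on the geometric points. -/
def ptsRepA (Ω : Type u) [Field Ω] [Algebra k Ω] (A : Over (Spec (CommRingCat.of k))) [GrpObj A] [IsCommMonObj A] :
    EndAV.End A →+* AddMonoid.End (Additive (SGA7.pt Ω ⟶ A)) where
  toFun u := (EndAV.End.ptsRep (SGA7.pt Ω) u).toAddMonoidHom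
  map_one' := AddMonoidHom.ext fun t => by
    show EndAV.End.ptsRep (SGA7.pt Ω) 1 t = t
    rw [map_one]; rfl
  map_mul' u v := AddMonoidHom.ext fun t => by
    show EndAV.End.ptsRep (SGA7.pt Ω) (u * v) t = _
    rw [map_mul]; rfl
  map_zero' := AddMonoidHom.ext fun t => by
    show EndAV.End.ptsRep (SGA7.pt Ω) 0 t = _
    rw [map_zero]; rfl
  map_add' u v := AddMonoidHom.ext fun t => by
    show EndAV.End.ptsRep (SGA7.pt Ω) (u + v) t = _
    rw [map_add]; rfl

variable [Finite k] {p : ℕ} [hp : Fact p.Prime] (hk : Nat.card k = p)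

include hk in
/-- The Frobenius kills every tangent vector. -/
theorem tan_comp_frob {A : Over (Spec (CommRingCat.of k))} [GrpObj A] [IsCommMonObj A] [IsProper A.hom]
    [GeometricallyIntegral A.hom] {π : A ⟶ A} [IsMonHom π] (hπ : IsFrob A π) {t : DN k ⟶ A} (ht : t ∈ tan A) :
    t ≫ π = 1 := by
  haveI := charP hk
  obtain ⟨φ, hφ⟩ := exists_frobPow hk (TrivSqZeroExt k k) 1
  have h := comp_frobPow hk hπ 1 t φ hφ
  rw [pow_one] at h
  refine h.trans ?_
  have e : φ = (Algebra.ofId k (TrivSqZeroExt k k)).comp (TrivSqZeroExt.fstHom k k k) := AlgHom.ext fun a => by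
    rw [hφ, pow_one, AlgHom.comp_apply]
    refine TrivSqZeroExt.ext ?_ ?_
    · rw [TrivSqZeroExt.fst_pow, pow_card_eq hk]; rfl
    · rw [TrivSqZeroExt.snd_pow, ← Nat.cast_smul_eq_nsmul k, CharP.cast_eq_zero, zero_smul]; rfl
  rw [e, ← spMap_comp, Category.assoc, show spMap (TrivSqZeroExt.fstHom k k k) ≫ t = 1 from ht, MonObj.comp_one]

variable {J : Type} [Fintype J] {K : J → Type} [∀ j, Field (K j)]
  [∀ j, CharZero (K j)] {ϖ : ∀ j, K j} {Aw : Over (Spec (CommRingCat.of k))} [GrpObj Aw] [IsCommMonObj Aw]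
  [IsProper Aw.hom] [GeometricallyIntegral Aw.hom] {πw : Aw ⟶ Aw} [IsMonHom πw]
  (hint : ∀ j, IsIntegral ℤ (ϖ j)) (hinj : ∀ i j, minpoly ℤ (ϖ i) = minpoly ℤ (ϖ j) → i = j)
  (hweil : ∀ j, ∀ z ∈ (minpoly ℤ (ϖ j)).aroots ℂ, ‖z‖ = Real.sqrt p)
  (ρ : (gens p ϖ).range ≃+* EndAV.End Aw)
  (hρ : ρ ⟨gens p ϖ (MvPolynomial.X 0), AlgHom.mem_range_self _ _⟩ = EndAV.End.of πw) (hAw : IsFrob Aw πw)

/-- The Verschiebung in the endomorphism ring. -/
abbrev ver : EndAV.End Aw := ρ ⟨gens p ϖ (MvPolynomial.X 1), AlgHom.mem_range_self _ _⟩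

theorem mul_comm_of_equiv (a b : EndAV.End Aw) (ρ : (gens p ϖ).range ≃+* EndAV.End Aw) : a * b = b * a := by
  obtain ⟨u, rfl⟩ := ρ.surjective a
  obtain ⟨v, rfl⟩ := ρ.surjective b
  rw [← map_mul, ← map_mul, _root_.mul_comm]

include hint hweil hρ in
theorem ver_mul : ver ρ * EndAV.End.of πw = (p : EndAV.End Aw) ∧ EndAV.End.of πw * ver ρ = (p : EndAV.End Aw) := by
  have hne := ne_zero_of_weil hp.out.pos hint hweil
  have h : ver ρ * EndAV.End.of πw = (p : EndAV.End Aw) := by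
    rw [← hρ, ← map_mul, show (⟨gens p ϖ (MvPolynomial.X 1), AlgHom.mem_range_self _ _⟩ : (gens p ϖ).range) *
        ⟨gens p ϖ (MvPolynomial.X 0), AlgHom.mem_range_self _ _⟩ = (p : (gens p ϖ).range) from
      Subtype.ext (funext fun j => by simp [gens, div_mul_cancel₀ _ (hne j)]), map_natCast]
  exact ⟨h, (mul_comm_of_equiv _ _ ρ).trans h⟩

/-- One generator spans a two-generated ring modulo the other. -/
theorem exists_aeval_quot {R : Type*} [CommRing R] (f : MvPolynomial (Fin 2) ℤ →+* R) (hf : Function.Surjective f)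
    (i i' : Fin 2) (hii : i ≠ i') (s : R ⧸ Ideal.span ({f (MvPolynomial.X i)} : Set R)) :
    ∃ q : Polynomial ℤ, Polynomial.aeval
      (Ideal.Quotient.mk (Ideal.span ({f (MvPolynomial.X i)} : Set R)) (f (MvPolynomial.X i'))) q = s := by
  obtain ⟨r, rfl⟩ := Ideal.Quotient.mk_surjective s
  obtain ⟨G, rfl⟩ := hf r
  induction G using MvPolynomial.induction_on with
  | C z => exact ⟨Polynomial.C z, by simp⟩
  | add G₁ G₂ h₁ h₂ =>
    obtain ⟨q₁, e₁⟩ := h₁
    obtain ⟨q₂, e₂⟩ := h₂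
    exact ⟨q₁ + q₂, by simp [e₁, e₂]⟩
  | mul_X G₁ j h₁ =>
    obtain ⟨q₁, e₁⟩ := h₁
    obtain rfl | rfl : j = i ∨ j = i' := by omega
    · refine ⟨0, ?_⟩
      rw [map_zero]
      refine (Ideal.Quotient.eq_zero_iff_mem.2 ?_).symm
      rw [map_mul]
      exact Ideal.mul_mem_left _ _ (Ideal.mem_span_singleton_self _)
    · exact ⟨q₁ * Polynomial.X, by simp [e₁]⟩

/-- A multiple of the image of an element lies in its ideal. -/
theorem mem_span_of_mul_eq (ρ : (gens p ϖ).range ≃+* EndAV.End Aw) (a r : (gens p ϖ).range) (y : EndAV.End Aw)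
    (h : y * ρ a = ρ r) : r ∈ Ideal.span ({a} : Set (gens p ϖ).range) := by
  refine Ideal.mem_span_singleton.2 ⟨ρ.symm y, ρ.injective ?_⟩
  rw [← h, map_mul, RingEquiv.apply_symm_apply]
  exact mul_comm_of_equiv _ _ ρ

/-- The cokernel of precomposition with an endomorphism is the quotient of the order by it. -/
theorem coker_eq_natCard (a : (gens p ϖ).range) :
    coker Aw (ρ a : EndAV.Hom Aw Aw) = Nat.card ((gens p ϖ).range ⧸ Ideal.span ({a} : Set (gens p ϖ).range)) := by
  let L : EndAV.End Aw →+ EndAV.End Aw := AddMonoidHom.mulRight (ρ a)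
  show L.range.index = _
  rw [← AddSubgroup.index_comap_of_surjective (f := (ρ.toAddEquiv.toAddMonoidHom : (gens p ϖ).range →+ EndAV.End Aw))
    (H := L.range) ρ.surjective, AddSubgroup.index_eq_card]
  have he : L.range.comap (ρ.toAddEquiv.toAddMonoidHom : (gens p ϖ).range →+ EndAV.End Aw) =
      (Ideal.span ({a} : Set (gens p ϖ).range)).toAddSubgroup := by
    ext r
    constructor
    · rintro ⟨φ, hφ⟩
      exact mem_span_of_mul_eq ρ a r φ hφ
    · intro hr
      obtain ⟨c, rfl⟩ := Ideal.mem_span_singleton.1 hr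
      refine ⟨ρ c, ?_⟩
      show ρ c * ρ a = ρ (a * c)
      rw [← map_mul, _root_.mul_comm]
  rw [he]
  rfl

/-- Small relations of one generator modulo the other force a small quotient. -/
theorem natCard_quot_le (hp0 : 0 < p) (i i' : Fin 2) (hii : i ≠ i') (c : (gens p ϖ).range)
    (hc : c = ⟨gens p ϖ (MvPolynomial.X i), AlgHom.mem_range_self _ _⟩)
    (hpmem : (p : (gens p ϖ).range) ∈ Ideal.span ({c} : Set (gens p ϖ).range))
    (m : Polynomial ℤ) (hm : m.Monic)
    (h : Polynomial.aeval (⟨gens p ϖ (MvPolynomial.X i'), AlgHom.mem_range_self _ _⟩ : (gens p ϖ).range) m ∈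
      Ideal.span ({c} : Set (gens p ϖ).range)) :
    Finite ((gens p ϖ).range ⧸ Ideal.span ({c} : Set (gens p ϖ).range)) ∧
      Nat.card ((gens p ϖ).range ⧸ Ideal.span ({c} : Set (gens p ϖ).range)) ≤ p ^ m.natDegree := by
  subst hc
  let π₀ := Ideal.Quotient.mk (Ideal.span ({⟨gens p ϖ (MvPolynomial.X i), AlgHom.mem_range_self _ _⟩} : Set (gens p ϖ).range))
  refine natCard_le_of_monic hp0 _ (exists_aeval_quot (gens p ϖ).rangeRestrict.toRingHom (AlgHom.rangeRestrict_surjective _) i i' hii) ?_ m hm ?_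
  · rw [← map_natCast π₀, Ideal.Quotient.eq_zero_iff_mem]
    exact hpmem
  · have e2 : ∀ b, Polynomial.aeval (π₀ b) m = π₀ (Polynomial.aeval b m) := fun b => by
      rw [Polynomial.aeval_def, Polynomial.aeval_def, Polynomial.hom_eval₂]
      exact congrArg (fun F => m.eval₂ F _) (RingHom.ext_int _ _)
    exact (e2 _).trans (Ideal.Quotient.eq_zero_iff_mem.2 h)

/-- Small relations of one generator modulo the other force a small index. -/
theorem le_pow_natDegree (hp0 : 0 < p) (i i' : Fin 2) (hii : i ≠ i') (f : EndAV.End Aw)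
    (hf : ρ ⟨gens p ϖ (MvPolynomial.X i), AlgHom.mem_range_self _ _⟩ = f)
    (hpmem : ∃ y : EndAV.End Aw, y * f = (p : EndAV.End Aw))
    (m : Polynomial ℤ) (hm : m.Monic)
    (h : ∃ y : EndAV.End Aw, y * f =
      Polynomial.aeval (ρ ⟨gens p ϖ (MvPolynomial.X i'), AlgHom.mem_range_self _ _⟩) m) :
    coker Aw (B := Aw) (B' := Aw) f ≠ 0 ∧ coker Aw (B := Aw) (B' := Aw) f ≤ p ^ m.natDegree := by
  obtain ⟨y, hy⟩ := hpmem
  obtain ⟨z, hz⟩ := h
  have e : coker Aw (B := Aw) (B' := Aw) f = Nat.card ((gens p ϖ).range ⧸ Ideal.span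
      ({⟨gens p ϖ (MvPolynomial.X i), AlgHom.mem_range_self _ _⟩} : Set (gens p ϖ).range)) := by
    rw [← hf]
    exact coker_eq_natCard ρ _
  obtain ⟨hfin, hle⟩ := natCard_quot_le hp0 i i' hii _ rfl
    (mem_span_of_mul_eq ρ _ _ y (by rw [hf, hy, map_natCast])) m hm
    (mem_span_of_mul_eq ρ _ _ z (by
      rw [hf, hz, Polynomial.aeval_def, Polynomial.aeval_def, ← RingEquiv.coe_toRingHom, Polynomial.hom_eval₂]
      exact congrArg (fun F => m.eval₂ F _) (RingHom.ext_int _ _).symm))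
  haveI := hfin
  rw [e]
  exact ⟨Nat.card_pos.ne', hle⟩

include hk hint hinj hweil hρ hAw

theorem isFinite_frob : IsFinite (EndAV.Hom.of πw).toHom.left ∧ Surjective (EndAV.Hom.of πw).toHom.left :=
  AVTors.Verschiebung.isFinite_left πw hAw.1

theorem isFinite_ver : IsFinite (EndAV.Hom.toHom (ver ρ : EndAV.Hom Aw Aw)).left ∧
    Surjective (EndAV.Hom.toHom (ver ρ : EndAV.Hom Aw Aw)).left := by
  obtain ⟨h1, h2⟩ := ver_mul hint hweil ρ hρ
  refine isFinite_surjective_of_inverse (g := EndAV.Hom.of πw) hp.out.pos ?_ ?_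
  · exact h2.trans (nsmul_one (A := EndAV.End Aw) p).symm
  · exact h1.trans (nsmul_one (A := EndAV.End Aw) p).symm

theorem nu_frob {g : ℕ} (hg : topologicalKrullDim Aw.left = g) :
    AVNu.nu (EndAV.Hom.of πw).toHom = p ^ g ∧ AVNu.nu (EndAV.Hom.toHom (ver ρ : EndAV.Hom Aw Aw)) = p ^ g := by
  let Ω := AlgebraicClosure k
  haveI : IsAlgClosed Ω := IsAlgClosure.isAlgClosed k
  obtain ⟨l, hlp, hl⟩ := AVHomLattice.exists_prime k
  haveI := Fact.mk hlp
  obtain ⟨e⟩ := AVTors.exists_linearEquiv_pt Ω Aw hg l hl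
  haveI : Module.Free ℤ_[l] (AbDual.TateMod Aw l (SGA7.pt Ω)) := Module.Free.of_equiv e
  haveI : Module.Finite ℤ_[l] (AbDual.TateMod Aw l (SGA7.pt Ω)) := Module.Finite.equiv e
  obtain ⟨P, hPm, hPd, hPv, hT⟩ := AVTateBC.exists_charpoly Ω Aw hg (EndAV.End.of πw)
  have hP : P = Pw ϖ := Polynomial.map_injective (Int.castRingHom ℤ_[l]) (RingHom.injective_int _)
    ((hT l hl).symm.trans (charpoly_eq (Ω := Ω) (l := l) hint hinj ρ hρ hl hAw))
  have h1 : AVNu.nu (EndAV.Hom.of πw).toHom = p ^ g := by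
    have h := hPv 0
    rw [Int.cast_zero, sub_zero, ← Polynomial.coeff_zero_eq_eval_zero, hP] at h
    rw [← natAbs_coeff_zero hint hweil (g := g) (by rw [← hP, hPd]), ← h, Int.natAbs_natCast]
    rfl
  refine ⟨h1, ?_⟩
  obtain ⟨hf, hs⟩ := isFinite_frob hk hint hinj hweil ρ hρ hAw
  haveI := hf; haveI := hs
  have h := nu_comp_isog (EndAV.Hom.of πw) (ver ρ : EndAV.Hom Aw Aw)
  have e2 : EndAV.Hom.toHom (EndAV.Hom.of πw ≫ (ver ρ : EndAV.Hom Aw Aw)) = 𝟙 Aw ^ p := by
    show ((ver ρ * EndAV.End.of πw : EndAV.End Aw)).toHom = _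
    rw [(ver_mul hint hweil ρ hρ).1, EndAV.End.toHom_natCast]
  rw [e2, h1] at h
  haveI := AVDegLib.isMonHom_pow (A := Aw) p
  have h3 : AVNu.nu (𝟙 Aw ^ p : Aw ⟶ Aw) = p ^ (2 * g) := by
    rw [← AVNu.finrank_eq_nu hg hg (𝟙 Aw ^ p) (AVMulN.isFinite_pow p hp.out.pos) (η[Aw].left (IsLocalRing.closedPoint k)),
      ← zpow_natCast, AVDegLib.finrank_zpow hg _ (by exact_mod_cast hp.out.ne_zero), Int.natAbs_natCast]
  rw [h3, two_mul, pow_add] at h
  exact (Nat.eq_of_mul_eq_mul_left (pow_pos hp.out.pos g) h).symm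

/-- The tangent space of the variety is cyclic for the Verschiebung. -/
theorem cyclicTors_tan : CyclicTors (tanRep Aw (ver ρ)) p := by
  haveI := charP hk
  obtain ⟨g, hg⟩ := AVTors.exists_dimNat Aw
  obtain ⟨hf, hs⟩ := isFinite_frob hk hint hinj hweil ρ hρ hAw
  haveI := hf; haveI := hs
  obtain ⟨H, _, _, _, i, hi, hker⟩ := AVDeg.exists_hopf_kernel (EndAV.Hom.of πw).toHom
  haveI := hi
  haveI : Mono η[Aw] := by
    haveI : Mono (η[Aw].left ≫ Aw.hom) := by
      rw [Over.w η[Aw]]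
      exact inferInstanceAs (Mono (𝟙 (Spec (CommRingCat.of k))))
    haveI := mono_of_mono η[Aw].left Aw.hom
    exact Over.mono_of_mono_left _
  haveI : Mono i := ⟨fun a b h => hker.hom_ext h (toUnit_unique _ _)⟩
  have hiπ : i ≫ πw = 1 := by
    rw [show i ≫ πw = i ≫ (EndAV.Hom.of πw).toHom from rfl, hker.w, Hom.one_def]
  obtain ⟨hfin, hcard⟩ := natCard_tan_of_killed hk hAw i hiπ
  haveI := hfin
  let T : tan (sp k H) → tan Aw := fun t => ⟨t.1 ≫ i, by
    rw [mem_tan, ← Category.assoc, mem_tan.1 t.2, MonObj.one_comp]⟩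
  have hT : Function.Surjective T := fun t => by
    obtain ⟨s, hs', -⟩ := hker.exists_lift t.1 (toUnit _) (by
      show t.1 ≫ πw = _
      rw [tan_comp_frob hk hAw t.2, Hom.one_def])
    refine ⟨⟨s, (cancel_mono i).1 ?_⟩, Subtype.ext hs'⟩
    rw [Category.assoc, hs', mem_tan.1 t.2, MonObj.one_comp]
  haveI : Finite (tan Aw) := Finite.of_surjective T hT
  haveI : Finite (Additive (tan Aw)) := inferInstanceAs (Finite (tan Aw))
  refine cyclicTors_of_rep (tanRep Aw) (ver ρ) p fun m hm hd hkill => ?_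
  have hle : Nat.card (nsmulAddMonoidHom p : Additive (tan Aw) →+ _).ker ≤ p ^ g := by
    refine (Nat.card_le_card_of_injective _ Subtype.val_injective).trans ?_
    show Nat.card (tan Aw) ≤ p ^ g
    refine (Nat.card_le_card_of_surjective T hT).trans ?_
    rw [hcard, finrank_eq_nu (EndAV.Hom.of πw) hker, (nu_frob hk hint hinj hweil ρ hρ hAw hg).1]
  have hlt : m.natDegree < g := (Nat.pow_lt_pow_iff_right hp.out.one_lt).1 (hd.trans_le hle)
  let u : EndAV.End Aw := Polynomial.aeval (ver ρ) m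
  haveI : IsMonHom (i ≫ u.toHom) := inferInstance
  have hu : i ≫ u.toHom = 1 := comp_eq_one_of_tan hk hAw i hiπ (i ≫ u.toHom) fun t ht => by
    rw [← Category.assoc]
    have hm' : t ≫ i ∈ tan Aw := by
      rw [mem_tan, ← Category.assoc, mem_tan.1 ht, MonObj.one_comp]
    have h0 := hkill (Additive.ofMul ⟨t ≫ i, hm'⟩) (by
      rw [← ofMul_pow, ← ofMul_one]
      exact congrArg Additive.ofMul (Subtype.ext (tan_pow_eq_one (A := Aw) p hm')))
    have h1 := congrArg (fun w : Additive (tan Aw) => w.toMul.1) h0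
    simp only [tanRep_apply, toMul_ofMul, toMul_zero, OneMemClass.coe_one] at h1
    convert h1 using 3
    first
      | rfl
      | (simp only [u, Polynomial.aeval_def]; congr 1; exact RingHom.ext_int _ _)
  obtain ⟨h, hh⟩ := exists_desc (EndAV.Hom.of πw) (u : EndAV.Hom Aw Aw) fun T' x hx => by
    obtain ⟨s, hs', -⟩ := hker.exists_lift x (toUnit _) (by rw [hx, Hom.one_def])
    rw [← hs', Category.assoc]
    show s ≫ i ≫ u.toHom = 1
    rw [hu, MonObj.comp_one]
  have hne := ne_zero_of_weil hp.out.pos hint hweil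
  obtain ⟨-, h2⟩ := le_pow_natDegree ρ hp.out.pos 0 1 (by decide) (EndAV.Hom.of πw) hρ
    ⟨ver ρ, (ver_mul hint hweil ρ hρ).1⟩ m hm ⟨h, hh⟩
  rw [coker_frob hint hinj hweil ρ hρ hAw hg] at h2
  exact (not_le.2 (Nat.pow_lt_pow_right hp.out.one_lt hlt)) h2

end Groth.Agent.AVTate.PrimeField
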