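import Groth.Agent.AVTate.PrimeField.Equiv
import Mathlib.Algebra.Module.ULift

/-!
# Varieties with prescribed endomorphism rings
-/

set_option autoImplicit false
set_option linter.style.haveILetI false
set_option linter.unusedSectionVars false
set_option backward.isDefEq.respectTransparency false
set_option backward.isDefEq.respectTransparency.types false
set_option maxHeartbeats 2000000
set_option synthInstance.maxHeartbeats 400000

universe u

open CategoryTheory AlgebraicGeometry MonoidalCategory CartesianMonoidalCategory MonObj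

noncomputable section

namespace Groth.Agent.AVTate.PrimeField

open AVTate.MinOrder

variable {k : Type u} [Field k] [Finite k] {p : ℕ} [hp : Fact p.Prime] (hk : Nat.card k = p)
  {J : Type} [Fintype J] {K : J → Type} [∀ j, Field (K j)]
  [∀ j, CharZero (K j)] {ϖ : ∀ j, K j} {Aw : Over (Spec (CommRingCat.of k))} [GrpObj Aw] [IsCommMonObj Aw]
  [IsProper Aw.hom] [GeometricallyIntegral Aw.hom] {πw : Aw ⟶ Aw} [IsMonHom πw]
  (hint : ∀ j, IsIntegral ℤ (ϖ j)) (hinj : ∀ i j, minpoly ℤ (ϖ i) = minpoly ℤ (ϖ j) → i = j)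
  (hweil : ∀ j, ∀ z ∈ (minpoly ℤ (ϖ j)).aroots ℂ, ‖z‖ = Real.sqrt p)
  (ρ : (gens p ϖ).range ≃+* EndAV.End Aw)
  (hρ : ρ ⟨gens p ϖ (MvPolynomial.X 0), AlgHom.mem_range_self _ _⟩ = EndAV.End.of πw) (hAw : IsFrob Aw πw)

include hk hint hinj hweil hρ hAw

/-- A ring over the order whose linear endomorphisms are multiplications is an endomorphism ring. -/
theorem exists_endRing (S : Type) [CommRing S] [Module.Finite ℤ S] [Module.IsTorsionFree ℤ S]
    (φ : (gens p ϖ).range →+* S)
    (hL : ∀ L : S →+ S, (∀ r x, L (φ r * x) = φ r * L x) → ∀ x, L x = L 1 * x) :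
    ∃ (B : Over (Spec (CommRingCat.of k))) (_ : GrpObj B) (_ : IsCommMonObj B) (_ : IsProper B.hom)
      (_ : GeometricallyIntegral B.hom) (πB : B ⟶ B) (_ : IsMonHom πB) (_ : IsFrob B πB)
      (_ : Polynomial.aeval (EndAV.End.of πB) (Pw ϖ) = 0) (σ : S ≃+* EndAV.End B)
      (e : S ≃+ EndAV.Hom B Aw),
        σ (φ ⟨gens p ϖ (MvPolynomial.X 0), AlgHom.mem_range_self _ _⟩) = EndAV.End.of πB ∧
          ∀ r x, e (φ r * x) = e x ≫ (ρ r : EndAV.Hom Aw Aw) := by
  let φ' : EndAV.End Aw →+* S := φ.comp ρ.symm.toRingHom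
  letI : Module (EndAV.End Aw) (ULift.{u} S) := Module.compHom (ULift.{u} S) φ'
  haveI : Module.Finite ℤ (ULift.{u} S) := Module.Finite.equiv (ULift.moduleEquiv (R := ℤ) (M := S)).symm
  haveI : Module.Free ℤ S := Module.free_of_finite_type_torsion_free'
  haveI : Module.Free ℤ (ULift.{u} S) := Module.Free.of_equiv (ULift.moduleEquiv (R := ℤ) (M := S)).symm
  obtain ⟨B, _, _, hBp, hBi, πB, _, hB, hPB, e₀, he₀⟩ :=
    exists_realization hk hint hinj hweil ρ hρ hAw (ULift.{u} S)
  haveI := hBp; haveI := hBi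
  let e : S ≃+ EndAV.Hom B Aw := AddEquiv.ulift.symm.trans e₀
  have he : ∀ r x, e (φ r * x) = e x ≫ (ρ r : EndAV.Hom Aw Aw) := fun r x => by
    refine EndAV.Hom.ext (Eq.trans ?_ (he₀ (ρ r) (ULift.up x)))
    show (e₀ (ULift.up (φ r * x))).toHom = (e₀ (ULift.up (φ' (ρ r) * x))).toHom
    simp [φ']
  obtain ⟨hfaith, hfull⟩ := fully_faithful hk hint hinj hweil ρ hρ hAw hB hPB hB hPB
  have hex : ∀ s, ∃ f : EndAV.Hom B B, ∀ x, e (s * x) = f ≫ e x := fun s => by
    obtain ⟨f, hf⟩ := hfull ((e.toAddMonoidHom.comp (AddMonoidHom.mulLeft s)).comp e.symm.toAddMonoidHom) fun ψ u => by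
      obtain ⟨r, rfl⟩ := ρ.surjective u
      show e (s * e.symm (ψ ≫ (ρ r : EndAV.Hom Aw Aw))) = e (s * e.symm ψ) ≫ (ρ r : EndAV.Hom Aw Aw)
      have h1 : e.symm (ψ ≫ (ρ r : EndAV.Hom Aw Aw)) = φ r * e.symm ψ := by
        rw [AddEquiv.symm_apply_eq, he, AddEquiv.apply_symm_apply]
      rw [h1, ← he]
      congr 1
      ring
    exact ⟨f, fun x => by
      rw [← hf]
      show _ = e (s * e.symm (e x))
      rw [AddEquiv.symm_apply_apply]⟩
  choose f hf using hex
  have huniq : ∀ (s : S) (g : EndAV.Hom B B), (∀ x, e (s * x) = g ≫ e x) → g = f s := fun s g hg =>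
    hfaith g (f s) fun ψ => by
      obtain ⟨x, rfl⟩ := e.surjective ψ
      rw [← hg, hf]
  let σ₀ : S →+* EndAV.End B :=
    { toFun := fun s => (f s : EndAV.End B)
      map_one' := (huniq 1 (𝟙 _) fun x => by rw [_root_.one_mul, Category.id_comp]).symm
      map_mul' := fun a b => (huniq (a * b) ((f b : EndAV.Hom B B) ≫ f a) fun x => by
        rw [Category.assoc, ← hf, ← hf, _root_.mul_comm a b, _root_.mul_assoc]).symm
      map_zero' := (huniq 0 0 fun x => by rw [zero_mul, map_zero, Limits.zero_comp]).symm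
      map_add' := fun a b => (huniq (a + b) (f a + f b) fun x => by
        rw [add_mul, map_add, Preadditive.add_comp, hf, hf]).symm }
  have hσ : Function.Bijective σ₀ := by
    refine ⟨(injective_iff_map_eq_zero σ₀).2 fun s hs => e.injective ?_, fun g => ?_⟩
    · rw [map_zero, ← _root_.mul_one s, hf, show f s = 0 from hs, Limits.zero_comp]
    · let L : S →+ S := (e.symm.toAddMonoidHom.comp (Preadditive.leftComp (CommGrp.mk Aw) (g : EndAV.Hom B B))).comp
        e.toAddMonoidHom
      refine ⟨L 1, (huniq (L 1) g fun x => ?_).symm⟩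
      rw [← hL L (fun r y => ?_) x]
      · exact e.apply_symm_apply _
      · show e.symm ((g : EndAV.Hom B B) ≫ e (φ r * y)) = φ r * e.symm ((g : EndAV.Hom B B) ≫ e y)
        rw [AddEquiv.symm_apply_eq, he, he, AddEquiv.apply_symm_apply, Category.assoc]
  refine ⟨B, inferInstance, inferInstance, hBp, hBi, πB, inferInstance, hB, hPB, RingEquiv.ofBijective σ₀ hσ, e, ?_, he⟩
  refine (huniq _ (EndAV.Hom.of πB) fun x => ?_).symm
  rw [he, hρ]
  exact (EndAV.Hom.ext (hB.natural hAw (e x).toHom)).symm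

end Groth.Agent.AVTate.PrimeField
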