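import Groth.Agent.AVTate.PrimeField.Cogen
import Groth.Agent.S16386
import Groth.Agent.S16391

/-!
# The functor of homomorphisms into the variety with minimal endomorphism ring
-/

set_option autoImplicit false
set_option linter.style.haveILetI false
set_option linter.unusedSectionVars false
set_option backward.isDefEq.respectTransparency false
set_option backward.isDefEq.respectTransparency.types false
set_option maxHeartbeats 2000000
set_option synthInstance.maxHeartbeats 400000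

universe u

open CategoryTheory AlgebraicGeometry MonoidalCategory CartesianMonoidalCategory MonObj

noncomputable section

namespace Groth.Agent.AVTate.PrimeField

open AVTate.MinOrder

variable {k : Type u} [Field k] [Finite k] {p : ℕ} [hp : Fact p.Prime] (hk : Nat.card k = p)
  {J : Type} [Fintype J] {K : J → Type} [∀ j, Field (K j)]
  [∀ j, CharZero (K j)] {ϖ : ∀ j, K j} {Aw : Over (Spec (CommRingCat.of k))} [GrpObj Aw] [IsCommMonObj Aw]
  [IsProper Aw.hom] [GeometricallyIntegral Aw.hom] {πw : Aw ⟶ Aw} [IsMonHom πw]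
  (hint : ∀ j, IsIntegral ℤ (ϖ j)) (hinj : ∀ i j, minpoly ℤ (ϖ i) = minpoly ℤ (ϖ j) → i = j)
  (hweil : ∀ j, ∀ z ∈ (minpoly ℤ (ϖ j)).aroots ℂ, ‖z‖ = Real.sqrt p)
  (ρ : (gens p ϖ).range ≃+* EndAV.End Aw)
  (hρ : ρ ⟨gens p ϖ (MvPolynomial.X 0), AlgHom.mem_range_self _ _⟩ = EndAV.End.of πw) (hAw : IsFrob Aw πw)

/-- A finite flat homomorphism is surjective. -/
theorem surjective_of_finite_flat {B B' : Over (Spec (CommRingCat.of k))} [GrpObj B] [IsCommMonObj B]
    [IsProper B.hom] [GeometricallyIntegral B.hom] [GrpObj B'] [IsCommMonObj B'] [IsProper B'.hom]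
    [GeometricallyIntegral B'.hom] (f : EndAV.Hom B B') [IsFinite f.toHom.left] [Flat f.toHom.left] :
    Surjective f.toHom.left := by
  haveI := H23.MaxAbelian.isIntegral_of_geometricallyIntegral (X := B)
  haveI := H23.MaxAbelian.isIntegral_of_geometricallyIntegral (X := B')
  haveI : IsLocallyNoetherian B'.left := LocallyOfFiniteType.isLocallyNoetherian B'.hom
  haveI : LocallyOfFinitePresentation f.toHom.left := LocallyOfFinitePresentation.iff_locallyOfFiniteType.2 inferInstance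
  refine ⟨Set.range_eq_univ.1 ((isClopen_iff.1 ⟨f.toHom.left.isClosedMap.isClosed_range,
    f.toHom.left.isOpenMap.isOpen_range⟩).resolve_left (Set.range_nonempty _).ne_empty)⟩

include hk hint hinj hweil hρ hAw

/-- Full faithfulness. -/
theorem fully_faithful {X Y : Over (Spec (CommRingCat.of k))} [GrpObj X] [IsCommMonObj X] [IsProper X.hom]
    [GeometricallyIntegral X.hom] [GrpObj Y] [IsCommMonObj Y] [IsProper Y.hom] [GeometricallyIntegral Y.hom]
    {πX : X ⟶ X} [IsMonHom πX] (hX : IsFrob X πX) (hPX : Polynomial.aeval (EndAV.End.of πX) (Pw ϖ) = 0)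
    {πY : Y ⟶ Y} [IsMonHom πY] (hY : IsFrob Y πY) (hPY : Polynomial.aeval (EndAV.End.of πY) (Pw ϖ) = 0) :
    (∀ f g : EndAV.Hom X Y, (∀ φ : EndAV.Hom Y Aw, f ≫ φ = g ≫ φ) → f = g) ∧
      (∀ g : EndAV.Hom Y Aw →+ EndAV.Hom X Aw,
        (∀ (φ : EndAV.Hom Y Aw) (s : EndAV.Hom Aw Aw), g (φ ≫ s) = g φ ≫ s) →
          ∃ f : EndAV.Hom X Y, ∀ φ : EndAV.Hom Y Aw, g φ = f ≫ φ) := by
  obtain ⟨hXb, hXle, hXapp⟩ := hX
  obtain ⟨hYb, hYle, hYapp⟩ := hY
  have hw := hAw
  obtain ⟨hwb, hwle, hwapp⟩ := hw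
  refine S16386.result k (Pw ϖ) Aw πw hwb hwle hwapp ?_ ?_ X Y πX hXb hXle hXapp ?_ πY hYb hYle hYapp ?_
  · rw [← aeval_eq_eval₂]; exact aeval_pw ρ hρ
  · intro Z _ _ _ _ πZ _ hZb hZle hZapp hPZ
    rw [← aeval_eq_eval₂] at hPZ
    exact exists_monic (π := πZ) ⟨hZb, hZle, hZapp⟩ hk hint hinj hweil ρ hρ hAw hPZ
  · rwa [← aeval_eq_eval₂]
  · rwa [← aeval_eq_eval₂]

/-- Essential surjectivity. -/
theorem exists_realization (M : Type u) [AddCommGroup M] [Module (EndAV.End Aw) M] [Module.Finite ℤ M]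
    [Module.Free ℤ M] :
    ∃ (B : Over (Spec (CommRingCat.of k))) (_ : GrpObj B) (_ : IsCommMonObj B) (_ : IsProper B.hom)
      (_ : GeometricallyIntegral B.hom) (πB : B ⟶ B) (_ : IsMonHom πB) (_ : IsFrob B πB)
      (_ : Polynomial.aeval (EndAV.End.of πB) (Pw ϖ) = 0) (e : M ≃+ EndAV.Hom B Aw),
        ∀ (s : EndAV.End Aw) (m : M), (e (s • m)).toHom = (e m).toHom ≫ s.toHom := by
  have hw := hAw
  obtain ⟨hwb, hwle, hwapp⟩ := hw
  obtain ⟨B, _, _, hBp, hBi, πB, _, hBb, hBle, hBapp, hPB, e, he⟩ :=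
    S16391.result k (Pw ϖ) Aw πw hwb hwle hwapp (by rw [← aeval_eq_eval₂]; exact aeval_pw ρ hρ)
      (fun Z _ _ _ _ πZ _ hZb hZle hZapp hPZ => by
        rw [← aeval_eq_eval₂] at hPZ
        exact exists_monic (π := πZ) ⟨hZb, hZle, hZapp⟩ hk hint hinj hweil ρ hρ hAw hPZ)
      (fun X Y _ _ _ _ _ _ _ _ πX _ hXb hXle hXapp hPX πY _ hYb hYle hYapp hPY φ _ f => by
        rw [← aeval_eq_eval₂] at hPX hPY
        exact exists_extend (π := πX) (π' := πY) ⟨hXb, hXle, hXapp⟩ ⟨hYb, hYle, hYapp⟩ hk hint hinj hweil ρ hρ hAw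
          hPX hPY φ f) M
  exact ⟨B, inferInstance, inferInstance, hBp, hBi, πB, inferInstance, ⟨hBb, hBle, hBapp⟩,
    (aeval_eq_eval₂ _ _).trans hPB, e, he⟩

/-- A homomorphism along which everything extends is a closed immersion. -/
theorem isClosedImmersion_of_surjective {B B' : Over (Spec (CommRingCat.of k))} [GrpObj B] [IsCommMonObj B]
    [IsProper B.hom] [GeometricallyIntegral B.hom] [GrpObj B'] [IsCommMonObj B'] [IsProper B'.hom]
    [GeometricallyIntegral B'.hom] {π : B ⟶ B} [IsMonHom π] (hπ : IsFrob B π)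
    (hP : Polynomial.aeval (EndAV.End.of π) (Pw ϖ) = 0) (f : EndAV.Hom B B')
    (hf : Function.Surjective (Preadditive.leftComp (CommGrp.mk Aw) f)) : IsClosedImmersion f.toHom.left := by
  obtain ⟨n, ψ, hψ⟩ := exists_monic hπ hk hint hinj hweil ρ hρ hAw hP
  haveI : IsProper (f.toHom.left ≫ B'.hom) := by rw [Over.w f.toHom]; infer_instance
  haveI : IsProper f.toHom.left := IsProper.of_comp f.toHom.left B'.hom
  refine (IsClosedImmersion.iff_isProper_and_mono _).2 ⟨inferInstance, ⟨fun {T} a b hab => ?_⟩⟩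
  have hw : a ≫ B.hom = b ≫ B.hom := by
    rw [← Over.w f.toHom]
    exact (reassoc_of% hab) B'.hom
  let a' : Over.mk (a ≫ B.hom) ⟶ B := Over.homMk a
  let b' : Over.mk (a ≫ B.hom) ⟶ B := Over.homMk b hw.symm
  refine congrArg Over.Hom.left (hψ _ a' b' fun i => ?_)
  obtain ⟨g, hg⟩ := hf (ψ i)
  rw [← show f ≫ g = ψ i from hg, EndAV.Hom.toHom_comp, ← Category.assoc, ← Category.assoc]
  have e : a' ≫ f.toHom = b' ≫ f.toHom := Over.OverMorphism.ext hab
  rw [e]

theorem surjective_iff_isClosedImmersion {B B' : Over (Spec (CommRingCat.of k))} [GrpObj B] [IsCommMonObj B]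
    [IsProper B.hom] [GeometricallyIntegral B.hom] [GrpObj B'] [IsCommMonObj B'] [IsProper B'.hom]
    [GeometricallyIntegral B'.hom] {π : B ⟶ B} [IsMonHom π] {π' : B' ⟶ B'} [IsMonHom π'] (hπ : IsFrob B π)
    (hπ' : IsFrob B' π') (hP : Polynomial.aeval (EndAV.End.of π) (Pw ϖ) = 0)
    (hP' : Polynomial.aeval (EndAV.End.of π') (Pw ϖ) = 0) (f : EndAV.Hom B B') :
    Function.Surjective (Preadditive.leftComp (CommGrp.mk Aw) f) ↔ IsClosedImmersion f.toHom.left := by
  refine ⟨isClosedImmersion_of_surjective hk hint hinj hweil ρ hρ hAw hπ hP f, fun h φ => ?_⟩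
  haveI := h
  obtain ⟨g, hg⟩ := exists_extend hπ hπ' hk hint hinj hweil ρ hρ hAw hP hP' f φ
  exact ⟨g, hg⟩

end Groth.Agent.AVTate.PrimeField
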