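import Groth.Agent.AVTate.PrimeField.Cyclic

/-!
# Isogenies whose kernel is killed by a power of the Frobenius
-/

set_option autoImplicit false
set_option linter.style.haveILetI false
set_option linter.unusedSectionVars false
set_option backward.isDefEq.respectTransparency false
set_option backward.isDefEq.respectTransparency.types false
set_option maxHeartbeats 2000000
set_option synthInstance.maxHeartbeats 400000

universe u

open CategoryTheory AlgebraicGeometry MonoidalCategory CartesianMonoidalCategory MonObj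
open Groth.Agent.GrpSchLib.AffineHopf

noncomputable section

namespace Groth.Agent.AVTate.PrimeField

open AVTate.MinOrder

variable {k : Type u} [Field k] [Finite k] {p : ℕ} [hp : Fact p.Prime] (hk : Nat.card k = p)

/-- The Frobenius powers are natural. -/
theorem natural_pow {B B' : Over (Spec (CommRingCat.of k))} [GrpObj B] [IsCommMonObj B] [IsProper B.hom]
    [GeometricallyIntegral B.hom] [GrpObj B'] [IsCommMonObj B'] [IsProper B'.hom] [GeometricallyIntegral B'.hom]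
    {π : B ⟶ B} [IsMonHom π] {π' : B' ⟶ B'} [IsMonHom π'] (hπ : IsFrob B π) (hπ' : IsFrob B' π') (f : B ⟶ B') :
    ∀ n : ℕ, (EndAV.End.of π ^ n).toHom ≫ f = f ≫ (EndAV.End.of π' ^ n).toHom := by
  intro n
  induction n with
  | zero => simp
  | succ n ih =>
    rw [EndAV.End.toHom_pow_succ, EndAV.End.toHom_pow_succ, Category.assoc, EndAV.End.toHom_of, hπ.natural hπ' f,
      ← Category.assoc, ih, Category.assoc, EndAV.End.toHom_of]

include hk

/-- The Verschiebung of an abelian variety over the prime field. -/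
theorem exists_ver (B : Over (Spec (CommRingCat.of k))) [GrpObj B] [IsCommMonObj B] [IsProper B.hom]
    [GeometricallyIntegral B.hom] {π : B ⟶ B} [IsMonHom π] (hπ : IsFrob B π) :
    ∃ V : EndAV.Hom B B, EndAV.Hom.of π ≫ V = p • 𝟙 (CommGrp.mk B) := by
  haveI := charP hk
  obtain ⟨hb, hle, happ⟩ := hπ
  obtain ⟨v, hv, h1, -⟩ := AVTors.Verschiebung.exists_versch π hb (Nat.card k) hle happ p 1 (by rw [hk, pow_one])
    (fun c => by rw [hk, pow_card_eq hk])
  haveI := hv
  refine ⟨EndAV.Hom.of v, EndAV.Hom.ext ?_⟩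
  rw [EndAV.Hom.toHom_comp, EndAV.Hom.toHom_nsmul, EndAV.Hom.toHom_id]
  exact h1.trans (by rw [hk])

/-- The Verschiebung is natural. -/
theorem ver_natural {B B' : Over (Spec (CommRingCat.of k))} [GrpObj B] [IsCommMonObj B] [IsProper B.hom]
    [GeometricallyIntegral B.hom] [GrpObj B'] [IsCommMonObj B'] [IsProper B'.hom] [GeometricallyIntegral B'.hom]
    {π : B ⟶ B} [IsMonHom π] {π' : B' ⟶ B'} [IsMonHom π'] (hπ : IsFrob B π) (hπ' : IsFrob B' π')
    {V : EndAV.Hom B B} (hV : EndAV.Hom.of π ≫ V = p • 𝟙 (CommGrp.mk B))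
    {V' : EndAV.Hom B' B'} (hV' : EndAV.Hom.of π' ≫ V' = p • 𝟙 (CommGrp.mk B')) (f : EndAV.Hom B B') :
    V ≫ f = f ≫ V' := by
  obtain ⟨h1, h2⟩ := AVTors.Verschiebung.isFinite_left π hπ.1
  haveI : IsFinite (EndAV.Hom.of π).toHom.left := h1
  haveI : Surjective (EndAV.Hom.of π).toHom.left := h2
  refine leftComp_injective (Z := B') (EndAV.Hom.of π) ?_
  show EndAV.Hom.of π ≫ V ≫ f = EndAV.Hom.of π ≫ f ≫ V'
  have e : EndAV.Hom.of π ≫ f = f ≫ EndAV.Hom.of π' := EndAV.Hom.ext (hπ.natural hπ' f.toHom)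
  rw [← Category.assoc, hV, ← Category.assoc, e, Category.assoc, hV', Preadditive.nsmul_comp, Preadditive.comp_nsmul,
    Category.id_comp, Category.comp_id]

variable {J : Type} [Fintype J] {K : J → Type} [∀ j, Field (K j)]
  [∀ j, CharZero (K j)] {ϖ : ∀ j, K j} {Aw : Over (Spec (CommRingCat.of k))} [GrpObj Aw] [IsCommMonObj Aw]
  [IsProper Aw.hom] [GeometricallyIntegral Aw.hom] {πw : Aw ⟶ Aw} [IsMonHom πw]
  (hint : ∀ j, IsIntegral ℤ (ϖ j)) (hinj : ∀ i j, minpoly ℤ (ϖ i) = minpoly ℤ (ϖ j) → i = j)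
  (hweil : ∀ j, ∀ z ∈ (minpoly ℤ (ϖ j)).aroots ℂ, ‖z‖ = Real.sqrt p)
  (ρ : (gens p ϖ).range ≃+* EndAV.End Aw)
  (hρ : ρ ⟨gens p ϖ (MvPolynomial.X 0), AlgHom.mem_range_self _ _⟩ = EndAV.End.of πw) (hAw : IsFrob Aw πw)

include hint hinj hweil hρ hAw

/-- An isogeny with kernel killed by the Frobenius has index at most its degree. -/
theorem coker_le_of_killed_one {B B' : Over (Spec (CommRingCat.of k))} [GrpObj B] [IsCommMonObj B] [IsProper B.hom]
    [GeometricallyIntegral B.hom] [GrpObj B'] [IsCommMonObj B'] [IsProper B'.hom] [GeometricallyIntegral B'.hom]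
    {π : B ⟶ B} [IsMonHom π] (hπ : IsFrob B π) (q : EndAV.Hom B B') [IsFinite q.toHom.left] [Surjective q.toHom.left]
    (hkill : ∀ (T : Over (Spec (CommRingCat.of k))) (x : T ⟶ B), x ≫ q.toHom = 1 → x ≫ π = 1) :
    coker Aw q ≠ 0 ∧ coker Aw q ≤ AVNu.nu q.toHom := by
  haveI := charP hk
  obtain ⟨π', _, hπ'⟩ := exists_isFrob B'
  obtain ⟨V, hV⟩ := exists_ver hk B hπ
  obtain ⟨V', hV'⟩ := exists_ver hk B' hπ'
  have hVw : EndAV.Hom.of πw ≫ (ver ρ : EndAV.Hom Aw Aw) = p • 𝟙 (CommGrp.mk Aw) :=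
    (ver_mul hint hweil ρ hρ).1.trans (nsmul_one (A := EndAV.End Aw) p).symm
  obtain ⟨H, _, _, _, i, hi, hker⟩ := AVDeg.exists_hopf_kernel q.toHom
  haveI := hi
  haveI : Mono η[B'] := by
    haveI : Mono (η[B'].left ≫ B'.hom) := by
      rw [Over.w η[B']]
      exact inferInstanceAs (Mono (𝟙 (Spec (CommRingCat.of k))))
    haveI := mono_of_mono η[B'].left B'.hom
    exact Over.mono_of_mono_left _
  haveI : Mono i := ⟨fun a b h => hker.hom_ext h (toUnit_unique _ _)⟩
  haveI : IsCommMonObj (sp k H) := ⟨by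
    rw [← cancel_mono i]
    simp [IsMonHom.mul_hom, ← BraidedCategory.braiding_naturality_assoc]⟩
  have hiq : i ≫ q.toHom = 1 := by rw [hker.w, Hom.one_def]
  have hiπ : i ≫ π = 1 := hkill _ i hiq
  obtain ⟨hfin, hcard⟩ := natCard_tan_of_killed hk hπ i hiπ
  obtain ⟨j, hj, -⟩ := hker.exists_lift (i ≫ V.toHom) (toUnit _) (by
    rw [Category.assoc, ← EndAV.Hom.toHom_comp, ver_natural hk hπ hπ' hV hV' q, EndAV.Hom.toHom_comp,
      ← Category.assoc, hiq, MonObj.one_comp, Hom.one_def])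
  haveI := hfin
  haveI : Finite (Additive (tan (sp k H))) := hfin
  have htB : ∀ t ∈ tan (sp k H), t ≫ i ∈ tan B := fun t ht => by
    rw [mem_tan, ← Category.assoc, mem_tan.1 ht, MonObj.one_comp]
  let fX : Additive (tan (sp k H)) →+ Additive (tan (sp k H)) :=
    AddMonoidHom.mk' (fun t => Additive.ofMul ⟨t.toMul.1 ≫ j, by
      rw [mem_tan, ← Category.assoc, mem_tan.1 t.toMul.2, ← cancel_mono i, Category.assoc, hj, MonObj.one_comp,
        MonObj.one_comp]⟩) fun s t => congrArg Additive.ofMul (Subtype.ext (by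
      show (s.toMul.1 * t.toMul.1) ≫ j = (s.toMul.1 ≫ j) * (t.toMul.1 ≫ j)
      rw [← cancel_mono i, MonObj.mul_comp (s.toMul.1 ≫ j), Category.assoc, hj, Category.assoc, hj, Category.assoc, hj,
        MonObj.mul_comp]))
  have hX : ∀ x : Additive (tan (sp k H)), p • x = 0 := fun x => congrArg Additive.ofMul (Subtype.ext (by
    show x.toMul.1 ^ p = 1
    rw [← cancel_mono i, MonObj.pow_comp, MonObj.one_comp]
    exact tan_pow_eq_one (A := B) p (htB _ x.toMul.2)))
  obtain ⟨hIf, hIc⟩ := bdd_of_killed (tanRep Aw (ver ρ)) fX p hX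
    (cyclicTors_tan hk hint hinj hweil ρ hρ hAw)
  let Φ : EndAV.Hom B Aw →+ (Additive (tan (sp k H)) →+ Additive (tan Aw)) :=
    AddMonoidHom.mk' (fun φ => AddMonoidHom.mk' (fun t => Additive.ofMul ⟨(t.toMul.1 ≫ i) ≫ φ.toHom, by
      rw [mem_tan, ← Category.assoc, mem_tan.1 (htB _ t.toMul.2), MonObj.one_comp]⟩)
      fun s t => congrArg Additive.ofMul (Subtype.ext (by
        show ((s.toMul.1 * t.toMul.1) ≫ i) ≫ φ.toHom = ((s.toMul.1 ≫ i) ≫ φ.toHom) * ((t.toMul.1 ≫ i) ≫ φ.toHom)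
        rw [MonObj.mul_comp, MonObj.mul_comp])))
      fun φ ψ => AddMonoidHom.ext fun t => congrArg Additive.ofMul (Subtype.ext (by
        show (t.toMul.1 ≫ i) ≫ (φ + ψ).toHom = ((t.toMul.1 ≫ i) ≫ φ.toHom) * ((t.toMul.1 ≫ i) ≫ ψ.toHom)
        rw [EndAV.Hom.toHom_add, MonObj.comp_mul]))
  have hΦk : Φ.ker = (Preadditive.leftComp (CommGrp.mk Aw) q).range := by
    ext φ
    constructor
    · intro hφ
      have hu : i ≫ φ.toHom = 1 := comp_eq_one_of_tan hk hπ i hiπ (i ≫ φ.toHom) fun t ht => by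
        rw [← Category.assoc]
        exact congrArg (fun w : Additive (tan Aw) => w.toMul.1) (DFunLike.congr_fun hφ (Additive.ofMul ⟨t, ht⟩))
      obtain ⟨h, hh⟩ := exists_desc q φ fun T x hx => by
        obtain ⟨s, hs, -⟩ := hker.exists_lift x (toUnit _) (by rw [hx, Hom.one_def])
        rw [← hs, Category.assoc, hu, MonObj.comp_one]
      exact ⟨h, hh⟩
    · rintro ⟨h, rfl⟩
      refine AddMonoidHom.ext fun t => congrArg Additive.ofMul (Subtype.ext ?_)
      show (t.toMul.1 ≫ i) ≫ EndAV.Hom.toHom (q ≫ h) = 1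
      rw [EndAV.Hom.toHom_comp, Category.assoc, ← Category.assoc i, hiq, MonObj.one_comp, MonObj.comp_one]
  have hmem : ∀ (f : Φ.range) (t : Additive (tan (sp k H))), f.1 (fX t) = tanRep Aw (ver ρ) (f.1 t) := by
    rintro ⟨_, φ, rfl⟩ t
    refine Additive.toMul.injective (Subtype.ext ?_)
    show ((t.toMul.1 ≫ j) ≫ i) ≫ φ.toHom = ((t.toMul.1 ≫ i) ≫ φ.toHom) ≫ (ver ρ).toHom
    rw [Category.assoc _ j, hj, Category.assoc, Category.assoc, Category.assoc, Category.assoc,
      ← EndAV.Hom.toHom_comp, ver_natural hk hπ hAw hV hVw φ]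
    rfl
  let e : Φ.range → {u : Additive (tan (sp k H)) →+ Additive (tan Aw) // ∀ x, u (fX x) = tanRep Aw (ver ρ) (u x)} :=
    fun f => ⟨f.1, hmem f⟩
  have he : Function.Injective e := fun a b h => Subtype.ext (congrArg (fun z => z.1) h)
  haveI := hIf
  haveI : Finite Φ.range := Finite.of_injective e he
  have hidx : coker Aw q = Nat.card Φ.range := by
    unfold coker
    rw [← hΦk, AddSubgroup.index_ker]
  rw [hidx]
  refine ⟨Nat.card_pos.ne', (Nat.card_le_card_of_injective e he).trans (hIc.trans ?_)⟩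
  rw [← finrank_eq_nu q hker, ← hcard]
  rfl

/-- An isogeny with kernel killed by a power of the Frobenius has index at most its degree. -/
theorem coker_le_of_killed (n : ℕ) : ∀ {B B' : Over (Spec (CommRingCat.of k))} [GrpObj B] [IsCommMonObj B]
    [IsProper B.hom] [GeometricallyIntegral B.hom] [GrpObj B'] [IsCommMonObj B'] [IsProper B'.hom]
    [GeometricallyIntegral B'.hom] {π : B ⟶ B} [IsMonHom π] (_hπ : IsFrob B π) (q : EndAV.Hom B B')
    [IsFinite q.toHom.left] [Surjective q.toHom.left],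
    (∀ (T : Over (Spec (CommRingCat.of k))) (x : T ⟶ B), x ≫ q.toHom = 1 → x ≫ (EndAV.End.of π ^ n).toHom = 1) →
    coker Aw q ≠ 0 ∧ coker Aw q ≤ AVNu.nu q.toHom := by
  induction n with
  | zero =>
    intro B B' _ _ _ _ _ _ _ _ π _ hπ q _ _ hkill
    refine coker_le_of_killed_one hk hint hinj hweil ρ hρ hAw hπ q fun T x hx => ?_
    have h := hkill T x hx
    rw [pow_zero, EndAV.End.toHom_one, Category.comp_id] at h
    rw [h, MonObj.one_comp]
  | succ n ih =>
    intro B B' _ _ _ _ _ _ _ _ π _ hπ q _ _ hkill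
    obtain ⟨Q, _, _, hQp, hQi, q₁, q₂, hf₁, hs₁, hf₂, hs₂, e, hmem⟩ := exists_factor_sub q (EndAV.End.of π)
    haveI := hQp; haveI := hQi; haveI := hf₁; haveI := hs₁; haveI := hf₂; haveI := hs₂
    obtain ⟨πQ, _, hπQ⟩ := exists_isFrob Q
    obtain ⟨π', _, hπ'⟩ := exists_isFrob B'
    obtain ⟨h₂, hh₂⟩ := exists_desc q (show EndAV.Hom B Q from (EndAV.End.of π ^ n : EndAV.End B) ≫ q₁) fun T x hx => by
      show x ≫ (EndAV.End.of π ^ n).toHom ≫ q₁.toHom = 1
      rw [← Category.assoc, hmem, Category.assoc, natural_pow hπ hπ' q.toHom n, ← Category.assoc, hx, MonObj.one_comp]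
      refine ⟨rfl, ?_⟩
      have h := hkill T x hx
      rw [EndAV.End.toHom_pow_succ, ← Category.assoc] at h
      exact h
    have h2 : q₂.toHom ≫ h₂.toHom = (EndAV.End.of πQ ^ n).toHom := by
      haveI := epi_isog q₁
      rw [← cancel_epi q₁.toHom, ← natural_pow hπ hπQ q₁.toHom n, ← Category.assoc, ← EndAV.Hom.toHom_comp, e,
        ← EndAV.Hom.toHom_comp, hh₂]
      rfl
    obtain ⟨n1, b1⟩ := coker_le_of_killed_one hk hint hinj hweil ρ hρ hAw hπ q₁ fun T x hx => ((hmem T x).1 hx).2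
    obtain ⟨n2, b2⟩ := ih hπQ q₂ fun T x hx => by rw [← h2, ← Category.assoc, hx, MonObj.one_comp]
    have hc := coker_comp (Aw := Aw) q₁ q₂ (leftComp_injective q₁)
    rw [e] at hc
    have hn := nu_comp_isog q₁ q₂
    rw [e] at hn
    rw [hc, hn]
    exact ⟨Nat.mul_ne_zero n2 n1, (Nat.mul_comm _ _).trans_le (Nat.mul_le_mul b1 b2)⟩

end Groth.Agent.AVTate.PrimeField
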