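import Groth.Agent.AVTate.PrimeField.Killed
import Groth.Agent.AVTors.TatePt
import Mathlib.FieldTheory.IsAlgClosed.Basic

/-!
# The torsion points of the variety with minimal endomorphism ring are cyclic
-/

set_option autoImplicit false
set_option linter.style.haveILetI false
set_option linter.unusedSectionVars false
set_option backward.isDefEq.respectTransparency false
set_option backward.isDefEq.respectTransparency.types false
set_option maxHeartbeats 2000000
set_option synthInstance.maxHeartbeats 400000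

universe u

open CategoryTheory AlgebraicGeometry MonoidalCategory CartesianMonoidalCategory MonObj
open Groth.Agent.GrpSchLib.AffineHopf

noncomputable section

namespace Groth.Agent.AVTate.PrimeField

open AVTate.MinOrder

/-- A finite two-generated ring in which the product of the generators is a unit is generated by one of them. -/
theorem exists_aeval_of_unit {S : Type*} [CommRing S] [Finite S] (f : MvPolynomial (Fin 2) ℤ →+* S)
    (hf : Function.Surjective f) {c : ℕ} (h : f (MvPolynomial.X 1) * f (MvPolynomial.X 0) = c) (hc : IsUnit (c : S))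
    (s : S) : ∃ q : Polynomial ℤ, Polynomial.aeval (f (MvPolynomial.X 0)) q = s := by
  obtain ⟨w, hw⟩ : IsUnit (f (MvPolynomial.X 0)) := isUnit_of_mul_isUnit_right (h ▸ hc)
  have hn : 0 < orderOf w := orderOf_pos w
  have hV : f (MvPolynomial.X 1) = (c : S) * f (MvPolynomial.X 0) ^ (orderOf w - 1) := by
    rw [← h, _root_.mul_assoc, ← pow_succ', Nat.sub_add_cancel hn, ← hw, ← Units.val_pow_eq_pow_val,
      pow_orderOf_eq_one, Units.val_one, _root_.mul_one]
  obtain ⟨G, rfl⟩ := hf s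
  induction G using MvPolynomial.induction_on with
  | C z => exact ⟨Polynomial.C z, by simp⟩
  | add G₁ G₂ h₁ h₂ =>
    obtain ⟨q₁, e₁⟩ := h₁
    obtain ⟨q₂, e₂⟩ := h₂
    exact ⟨q₁ + q₂, by simp [e₁, e₂]⟩
  | mul_X G₁ j h₁ =>
    obtain ⟨q₁, e₁⟩ := h₁
    obtain rfl | rfl : j = 0 ∨ j = 1 := by omega
    · exact ⟨q₁ * Polynomial.X, by simp [e₁]⟩
    · exact ⟨q₁ * (Polynomial.C (c : ℤ) * Polynomial.X ^ (orderOf w - 1)), by simp [e₁, hV]⟩

/-- A relation of one generator bounds the quotient by a number prime to the product of the generators. -/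
theorem natCard_quot_natCast_le {R : Type*} [CommRing R] (φ : MvPolynomial (Fin 2) ℤ →+* R)
    (hφ : Function.Surjective φ) {l c : ℕ} (hl : 0 < l) (hcop : l.Coprime c)
    (hmul : φ (MvPolynomial.X 1) * φ (MvPolynomial.X 0) = c)
    (hfin : Nat.card (R ⧸ Ideal.span ({(l : R)} : Set R)) ≠ 0) (m : Polynomial ℤ) (hm : m.Monic)
    (h : Polynomial.aeval (φ (MvPolynomial.X 0)) m ∈ Ideal.span ({(l : R)} : Set R)) :
    Nat.card (R ⧸ Ideal.span ({(l : R)} : Set R)) ≤ l ^ m.natDegree := by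
  let π₀ := Ideal.Quotient.mk (Ideal.span ({(l : R)} : Set R))
  haveI : Finite (R ⧸ Ideal.span ({(l : R)} : Set R)) := Nat.finite_of_card_ne_zero hfin
  have hl0 : (l : R ⧸ Ideal.span ({(l : R)} : Set R)) = 0 := by
    rw [← map_natCast π₀, Ideal.Quotient.eq_zero_iff_mem]
    exact Ideal.mem_span_singleton_self _
  have hu : IsUnit (c : R ⧸ Ideal.span ({(l : R)} : Set R)) := by
    have h' := congrArg (fun z : ℤ => (z : R ⧸ Ideal.span ({(l : R)} : Set R))) (Nat.gcd_eq_gcd_ab c l)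
    simp only [Nat.Coprime.gcd_eq_one hcop.symm, Int.cast_add, Int.cast_mul, Int.cast_natCast, Nat.cast_one,
      Int.cast_one, hl0, zero_mul, add_zero] at h'
    exact IsUnit.of_mul_eq_one _ h'.symm
  refine (natCard_le_of_monic hl _ (exists_aeval_of_unit (π₀.comp φ) (Ideal.Quotient.mk_surjective.comp hφ) ?_ hu)
    hl0 m hm ?_).2
  · show π₀ (φ (MvPolynomial.X 1)) * π₀ (φ (MvPolynomial.X 0)) = _
    rw [← map_mul, hmul, map_natCast]
  · show Polynomial.aeval (π₀ (φ (MvPolynomial.X 0))) m = 0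
    have e2 : ∀ b, Polynomial.aeval (π₀ b) m = π₀ (Polynomial.aeval b m) := fun b => by
      rw [Polynomial.aeval_def, Polynomial.aeval_def, Polynomial.hom_eval₂]
      exact congrArg (fun F => m.eval₂ F _) (RingHom.ext_int _ _)
    exact (e2 _).trans (Ideal.Quotient.eq_zero_iff_mem.2 h)

variable {k : Type u} [Field k] [Finite k] {p : ℕ} [hp : Fact p.Prime]
  {Ω : Type u} [Field Ω] [Algebra k Ω] [IsAlgClosure k Ω]

/-- The Frobenius is bijective on geometric points. -/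
theorem frob_pts_bijective {X : Over (Spec (CommRingCat.of k))} [GrpObj X] [IsCommMonObj X] [IsProper X.hom]
    [GeometricallyIntegral X.hom] {π : X ⟶ X} [IsMonHom π] (hπ : IsFrob X π) :
    Function.Bijective fun x : SGA7.pt Ω ⟶ X => x ≫ π := by
  obtain ⟨τ, hτ⟩ := galAct_frob (Ω := Ω) hπ
  have h1 : ∀ σ : Ω ≃ₐ[k] Ω, SGA7.specAut σ.symm ≫ SGA7.specAut σ = 𝟙 _ := fun σ => Over.OverMorphism.ext (by
    show Spec.map (CommRingCat.ofHom (σ.symm : Ω →+* Ω)) ≫ Spec.map (CommRingCat.ofHom (σ : Ω →+* Ω)) = 𝟙 _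
    rw [← Spec.map_comp, ← Spec.map_id]
    congr 1
    exact CommRingCat.hom_ext (RingHom.ext fun a => σ.symm_apply_apply a))
  refine ⟨fun x y h => ?_, fun y => ⟨SGA7.specAut τ.symm ≫ y, ?_⟩⟩
  · have h' : SGA7.specAut τ ≫ x = SGA7.specAut τ ≫ y := (hτ x).trans (h.trans (hτ y).symm)
    have := congrArg (SGA7.specAut τ.symm ≫ ·) h'
    rwa [← Category.assoc, ← Category.assoc, h1, Category.id_comp, Category.id_comp] at this
  · show (SGA7.specAut τ.symm ≫ y) ≫ π = y
    rw [← hτ]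
    show SGA7.specAut τ ≫ SGA7.specAut τ.symm ≫ y = y
    have h2 := h1 τ.symm
    rw [AlgEquiv.symm_symm] at h2
    rw [← Category.assoc, h2, Category.id_comp]

theorem ptsRepA_apply (A : Over (Spec (CommRingCat.of k))) [GrpObj A] [IsCommMonObj A] (u : EndAV.End A)
    (t : Additive (SGA7.pt Ω ⟶ A)) : (ptsRepA Ω A u t).toMul = t.toMul ≫ u.toHom := rfl

theorem eq_one_of_comp_frob_pow {X : Over (Spec (CommRingCat.of k))} [GrpObj X] [IsCommMonObj X] [IsProper X.hom]
    [GeometricallyIntegral X.hom] {π : X ⟶ X} [IsMonHom π] (hπ : IsFrob X π) :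
    ∀ (n : ℕ) (x : SGA7.pt Ω ⟶ X), x ≫ (EndAV.End.of π ^ n).toHom = 1 → x = 1 := by
  intro n
  induction n with
  | zero => intro x h; simpa using h
  | succ n ih =>
    intro x h
    refine ih x ((frob_pts_bijective (Ω := Ω) hπ).1 ?_)
    show (x ≫ _) ≫ π = 1 ≫ π
    rw [MonObj.one_comp, Category.assoc]
    rwa [EndAV.End.toHom_pow_succ, EndAV.End.toHom_of] at h

variable (hk : Nat.card k = p) {J : Type} [Fintype J] {K : J → Type} [∀ j, Field (K j)]
  [∀ j, CharZero (K j)] {ϖ : ∀ j, K j} {Aw : Over (Spec (CommRingCat.of k))} [GrpObj Aw] [IsCommMonObj Aw]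
  [IsProper Aw.hom] [GeometricallyIntegral Aw.hom] {πw : Aw ⟶ Aw} [IsMonHom πw]
  (hint : ∀ j, IsIntegral ℤ (ϖ j)) (hinj : ∀ i j, minpoly ℤ (ϖ i) = minpoly ℤ (ϖ j) → i = j)
  (hweil : ∀ j, ∀ z ∈ (minpoly ℤ (ϖ j)).aroots ℂ, ‖z‖ = Real.sqrt p)
  (ρ : (gens p ϖ).range ≃+* EndAV.End Aw)
  (hρ : ρ ⟨gens p ϖ (MvPolynomial.X 0), AlgHom.mem_range_self _ _⟩ = EndAV.End.of πw) (hAw : IsFrob Aw πw)

include hk hint hinj hweil hρ hAw

theorem coker_natCast {g : ℕ} (hg : topologicalKrullDim Aw.left = g) (n : ℕ) [NeZero n] :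
    coker Aw (B := Aw) (B' := Aw) (n : EndAV.End Aw) = n ^ (2 * g) := by
  obtain ⟨hfree, hfin, hr⟩ := finrank_hom_eq hint hinj ρ hρ hAw hAw (aeval_pw ρ hρ) hg
  haveI := hfree; haveI := hfin
  rw [← nsmul_one (A := EndAV.End Aw) n]
  exact (coker_nsmul (B := Aw) (Aw := Aw) n).trans (by rw [hr])

/-- The Verschiebung has index `p ^ g`. -/
theorem coker_ver {g : ℕ} (hg : topologicalKrullDim Aw.left = g) :
    coker Aw (ver ρ : EndAV.Hom Aw Aw) = p ^ g := by
  haveI : NeZero p := ⟨hp.out.ne_zero⟩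
  obtain ⟨hf, hs⟩ := isFinite_frob hk hint hinj hweil ρ hρ hAw
  haveI := hf; haveI := hs
  have h := coker_comp (Aw := Aw) (EndAV.Hom.of πw) (ver ρ : EndAV.Hom Aw Aw) (leftComp_injective _)
  have e : EndAV.Hom.of πw ≫ (ver ρ : EndAV.Hom Aw Aw) = (p : EndAV.End Aw) := (ver_mul hint hweil ρ hρ).1
  rw [e, coker_natCast hk hint hinj hweil ρ hρ hAw hg, coker_frob hint hinj hweil ρ hρ hAw hg, two_mul, pow_add] at h
  exact (Nat.eq_of_mul_eq_mul_right (pow_pos hp.out.pos g) h).symm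

/-- No small relation holds on the torsion points prime to the characteristic. -/
theorem not_kill_of_ne {g : ℕ} (hg : topologicalKrullDim Aw.left = g) {l : ℕ} [hl : Fact l.Prime] (hlp : l ≠ p)
    (m : Polynomial ℤ) (hm : m.Monic) (hd : l ^ m.natDegree < l ^ (2 * g))
    (hkill : ∀ x : SGA7.pt Ω ⟶ Aw, x ^ l = 1 → x ≫ (Polynomial.aeval (EndAV.End.of πw) m).toHom = 1) : False := by
  haveI : IsAlgClosed Ω := IsAlgClosure.isAlgClosed k
  haveI : NeZero l := ⟨hl.out.ne_zero⟩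
  have hcop : Nat.Coprime l p := (Nat.coprime_primes hl.out hp.out).2 hlp
  let u : EndAV.End Aw := Polynomial.aeval (EndAV.End.of πw) m
  let L : EndAV.Hom Aw Aw := (l : EndAV.End Aw)
  have hL : L.toHom = 𝟙 Aw ^ l := EndAV.End.toHom_natCast l
  haveI : IsFinite L.toHom.left := by rw [hL]; exact AVMulN.isFinite_pow l hl.out.pos
  haveI : Surjective L.toHom.left := by rw [hL]; exact AVMulN.surjective_pow l hl.out.pos
  obtain ⟨H, _, _, _, i, hi, hker⟩ := AVDeg.exists_hopf_kernel L.toHom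
  haveI := hi
  haveI : Finite H := Module.finite_of_finite k
  obtain ⟨n, -, hper, hnil⟩ := exists_period (p := p) H
  have hil : ∀ {T : Over (Spec (CommRingCat.of k))} (x : T ⟶ sp k H), (x ≫ i) ^ l = 1 := fun {T} x => by
    have h : x ≫ i ≫ L.toHom = 1 := by
      rw [hker.w, ← Category.assoc, toUnit_unique (x ≫ toUnit _) (toUnit _), Hom.one_def]
    rwa [hL, MonObj.comp_pow, Category.comp_id, MonObj.comp_pow] at h
  have hu : i ≫ u.toHom = 1 := by
    refine comp_eq_one hk hAw i u.toHom hper hnil (Ω := Ω) (fun x => ?_) fun T x hx => ?_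
    · rw [← Category.assoc]
      exact hkill _ (hil x)
    · have h1 : (x ≫ i) ^ p ^ n = 1 := by
        have e : (EndAV.End.of πw ^ n).toHom ≫ ((ver ρ) ^ n).toHom = 𝟙 Aw ^ p ^ n := by
          rw [← EndAV.End.toHom_mul, ← (show Commute (ver ρ) (EndAV.End.of πw) from mul_comm_of_equiv _ _ ρ).mul_pow,
            (ver_mul hint hweil ρ hρ).1, ← Nat.cast_pow, EndAV.End.toHom_natCast]
        have h2 : ((x ≫ i) ≫ (EndAV.End.of πw ^ n).toHom) ≫ ((ver ρ) ^ n).toHom = 1 := by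
          rw [Category.assoc x i, hx, MonObj.one_comp]
        rwa [Category.assoc, e, MonObj.comp_pow, Category.comp_id] at h2
      have h3 := pow_gcd_eq_one.2 ⟨hil x, h1⟩
      rw [Nat.Coprime.pow_right n hcop, pow_one] at h3
      rw [← Category.assoc, h3, MonObj.one_comp]
  obtain ⟨y, hy⟩ := exists_desc L (u : EndAV.Hom Aw Aw) fun T x hx => by
    obtain ⟨s, hs, -⟩ := hker.exists_lift x (toUnit _) (by rw [hx, Hom.one_def])
    rw [← hs, Category.assoc]
    show s ≫ i ≫ u.toHom = 1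
    rw [hu, MonObj.comp_one]
  let R := (gens p ϖ).range
  have hc : coker Aw (B := Aw) (B' := Aw) (ρ (l : R)) = l ^ (2 * g) := by
    rw [map_natCast]
    exact coker_natCast hk hint hinj hweil ρ hρ hAw hg l
  rw [coker_eq_natCard] at hc
  have hne := ne_zero_of_weil hp.out.pos hint hweil
  have hle := natCard_quot_natCast_le (gens p ϖ).rangeRestrict.toRingHom (AlgHom.rangeRestrict_surjective _) hl.out.pos
    hcop (Subtype.ext (funext fun j => by simp [gens, div_mul_cancel₀ _ (hne j)]))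
    (by rw [hc]; exact pow_ne_zero _ hl.out.ne_zero) m hm
    (mem_span_of_mul_eq ρ _ _ y (by
      rw [map_natCast]
      exact hy.trans (aeval_frob ρ hρ m)))
  rw [hc] at hle
  exact absurd hle (not_le.2 hd)

/-- No small relation holds on the torsion points at the characteristic. -/
theorem not_kill_of_eq {g : ℕ} (hg : topologicalKrullDim Aw.left = g) (m : Polynomial ℤ) (hm : m.Monic)
    (hd : p ^ m.natDegree < Nat.card (AVTors.kerPts (EndAV.Hom.toHom (ver ρ : EndAV.Hom Aw Aw)) Ω))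
    (hkill : ∀ x : SGA7.pt Ω ⟶ Aw, x ^ p = 1 → x ≫ (Polynomial.aeval (EndAV.End.of πw) m).toHom = 1) : False := by
  haveI : IsAlgClosed Ω := IsAlgClosure.isAlgClosed k
  obtain ⟨hf, hs⟩ := isFinite_ver hk hint hinj hweil ρ hρ hAw
  haveI := hf; haveI := hs
  let V : EndAV.Hom Aw Aw := ver ρ
  obtain ⟨H, _, _, _, i, hi, hker⟩ := AVDeg.exists_hopf_kernel V.toHom
  haveI := hi
  haveI : Finite H := Module.finite_of_finite k
  obtain ⟨n, -, hper, hnil⟩ := exists_period (p := p) H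
  obtain ⟨Q, _, _, hQp, hQi, q₁, q₂, hf₁, hs₁, hf₂, hs₂, e, hmem⟩ := exists_factor_sub V (EndAV.End.of πw ^ n)
  haveI := hQp; haveI := hQi; haveI := hf₁; haveI := hs₁; haveI := hf₂; haveI := hs₂
  obtain ⟨hc0, hc1⟩ := coker_le_of_killed hk hint hinj hweil ρ hρ hAw n hAw q₁ fun T x hx => ((hmem T x).1 hx).2
  let c : ℕ := Nat.card (AVTors.kerPts V.toHom Ω)
  have hpts : c ≤ AVNu.nu q₂.toHom := by
    refine le_trans ?_ (natCard_kerPts_le_nu (Ω := Ω) q₂)
    haveI := AVTors.finite_kerPts (Ω := Ω) q₂.toHom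
    refine Nat.card_le_card_of_injective (fun x => (⟨x.1 ≫ q₁.toHom, by
      show (x.1 ≫ q₁.toHom) ≫ q₂.toHom = 1
      rw [Category.assoc, ← EndAV.Hom.toHom_comp, e]
      exact x.2⟩ : AVTors.kerPts q₂.toHom Ω)) fun a b h => ?_
    have h' : a.1 ≫ q₁.toHom = b.1 ≫ q₁.toHom := congrArg Subtype.val h
    have hdiv : (a.1 / b.1) ≫ q₁.toHom = 1 := by rw [GrpObj.div_comp, h', div_self']
    exact Subtype.ext (div_eq_one.1 (eq_one_of_comp_frob_pow hAw n _ ((hmem _ _).1 hdiv).2))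
  have hnu : AVNu.nu q₁.toHom * c ≤ p ^ g := by
    refine (Nat.mul_le_mul_left _ hpts).trans_eq ?_
    rw [← nu_comp_isog q₁ q₂, e]
    exact (nu_frob hk hint hinj hweil ρ hρ hAw hg).2
  let R := (gens p ϖ).range
  let I : Ideal R :=
    { carrier := {r | ∃ h : EndAV.Hom Q Aw, q₁ ≫ h = (ρ r : EndAV.Hom Aw Aw)}
      add_mem' := by
        rintro a b ⟨h, hh⟩ ⟨h', hh'⟩
        exact ⟨h + h', by rw [Preadditive.comp_add, hh, hh', map_add]⟩
      zero_mem' := ⟨0, by rw [Limits.comp_zero, map_zero]⟩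
      smul_mem' := by
        rintro a b ⟨h, hh⟩
        refine ⟨h ≫ (ρ a : EndAV.Hom Aw Aw), ?_⟩
        rw [← Category.assoc, hh, smul_eq_mul, map_mul]
        rfl }
  have hIc : Nat.card (R ⧸ I) = coker Aw q₁ := by
    show Nat.card (R ⧸ I.toAddSubgroup) = _
    rw [← AddSubgroup.index_eq_card]
    exact (Preadditive.leftComp (CommGrp.mk Aw) q₁).range.index_comap_of_surjective
      (f := (ρ.toAddEquiv.toAddMonoidHom : R →+ EndAV.End Aw)) ρ.surjective
  haveI : Finite (R ⧸ I) := Nat.finite_of_card_ne_zero (hIc ▸ hc0)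
  have hmemI : ∀ (r : R) (y : EndAV.End Aw), ρ r = y → (∀ (T : Over (Spec (CommRingCat.of k))) (x : T ⟶ Aw),
      x ≫ q₁.toHom = 1 → x ≫ y.toHom = 1) → r ∈ I := fun r y hy h => by
    obtain ⟨h', hh'⟩ := exists_desc q₁ (y : EndAV.Hom Aw Aw) h
    exact ⟨h', hh'.trans hy.symm⟩
  have hp0 : (p : R ⧸ I) = 0 := by
    rw [← map_natCast (Ideal.Quotient.mk I), Ideal.Quotient.eq_zero_iff_mem]
    refine hmemI _ (EndAV.End.of πw * ver ρ) (by rw [map_natCast, (ver_mul hint hweil ρ hρ).2]) fun T x hx => ?_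
    rw [EndAV.End.toHom_mul, ← Category.assoc]
    show (x ≫ V.toHom) ≫ _ = 1
    rw [((hmem T x).1 hx).1, MonObj.one_comp]
  let F : R := ⟨gens p ϖ (MvPolynomial.X 0), AlgHom.mem_range_self _ _⟩
  have hnilF : IsNilpotent (Ideal.Quotient.mk I F) := by
    refine ⟨n, ?_⟩
    rw [← map_pow, Ideal.Quotient.eq_zero_iff_mem]
    exact hmemI _ (EndAV.End.of πw ^ n) (by rw [map_pow, hρ]) fun T x hx => ((hmem T x).1 hx).2
  obtain ⟨e', he'⟩ : ∃ e', Nat.card (R ⧸ I) = p ^ e' := by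
    rcases subsingleton_or_nontrivial (R ⧸ I) with hS | hS
    · exact ⟨0, by rw [pow_zero, Nat.card_of_subsingleton 0]⟩
    haveI : CharP (R ⧸ I) p := (CharP.charP_iff_prime_eq_zero hp.out).2 hp0
    letI : Algebra (ZMod p) (R ⧸ I) := ZMod.algebra _ p
    haveI : Module.Finite (ZMod p) (R ⧸ I) := Module.Finite.of_finite
    exact ⟨_, (Module.natCard_eq_pow_finrank (K := ZMod p) (V := R ⧸ I)).trans (by rw [Nat.card_zmod])⟩
  have hlt : m.natDegree + e' < g := by
    refine (Nat.pow_lt_pow_iff_right hp.out.one_lt).1 ?_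
    rw [pow_add, ← he', hIc]
    calc p ^ m.natDegree * coker Aw q₁ < c * coker Aw q₁ := Nat.mul_lt_mul_of_pos_right hd (Nat.pos_of_ne_zero hc0)
      _ ≤ c * AVNu.nu q₁.toHom := Nat.mul_le_mul_left _ hc1
      _ ≤ p ^ g := (Nat.mul_comm _ _).trans_le hnu
  obtain ⟨h₁, hh₁⟩ : F ^ e' ∈ I := by
    rw [← Ideal.Quotient.eq_zero_iff_mem, map_pow]
    exact pow_eq_zero_of_natCard hp0 _ hnilF he'.le
  have hh1 : q₁.toHom ≫ h₁.toHom = (EndAV.End.of πw ^ e').toHom := by
    rw [← EndAV.Hom.toHom_comp, hh₁, map_pow, hρ]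
  let u : EndAV.End Aw := Polynomial.aeval (EndAV.End.of πw) (m * Polynomial.X ^ e')
  have hu' : u.toHom = (EndAV.End.of πw ^ e').toHom ≫ (Polynomial.aeval (EndAV.End.of πw) m).toHom := by
    show (Polynomial.aeval (EndAV.End.of πw) (m * Polynomial.X ^ e')).toHom = _
    rw [map_mul, map_pow, Polynomial.aeval_X, EndAV.End.toHom_mul]
  have hu : i ≫ u.toHom = 1 := by
    refine comp_eq_one hk hAw i u.toHom hper hnil (Ω := Ω) (fun x => ?_) fun T x hx => ?_
    · have h1 : (x ≫ i) ≫ V.toHom = 1 := by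
        rw [Category.assoc, hker.w, ← Category.assoc, toUnit_unique (x ≫ toUnit _) (toUnit _), Hom.one_def]
      have h2 : ((x ≫ i) ≫ (EndAV.End.of πw ^ e').toHom) ^ p = 1 := by
        have e2 : V.toHom ≫ (EndAV.End.of πw).toHom = 𝟙 Aw ^ p := by
          rw [← EndAV.End.toHom_natCast, ← (ver_mul hint hweil ρ hρ).2, EndAV.End.toHom_mul]
        have h3 : (x ≫ i) ^ p = 1 := by
          rw [← Category.comp_id (x ≫ i), ← MonObj.comp_pow, ← e2, ← Category.assoc, h1, MonObj.one_comp]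
        rw [← MonObj.pow_comp, h3, MonObj.one_comp]
      rw [hu', ← Category.assoc, ← Category.assoc]
      exact hkill _ h2
    · have h1 : (x ≫ i) ≫ q₁.toHom = 1 := by
        refine (hmem _ _).2 ⟨?_, by rw [Category.assoc]; exact hx⟩
        rw [Category.assoc, hker.w, ← Category.assoc, toUnit_unique (x ≫ toUnit _) (toUnit _), Hom.one_def]
      rw [hu', ← Category.assoc, ← hh1, ← Category.assoc, ← Category.assoc, h1, MonObj.one_comp, MonObj.one_comp]
  obtain ⟨y, hy⟩ := exists_desc V (u : EndAV.Hom Aw Aw) fun T x hx => by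
    obtain ⟨s, hs', -⟩ := hker.exists_lift x (toUnit _) (by rw [hx, Hom.one_def])
    rw [← hs', Category.assoc]
    show s ≫ i ≫ u.toHom = 1
    rw [hu, MonObj.comp_one]
  obtain ⟨-, h2⟩ := le_pow_natDegree ρ hp.out.pos 1 0 (by decide) (ver ρ) rfl
    ⟨EndAV.End.of πw, (ver_mul hint hweil ρ hρ).2⟩ (m * Polynomial.X ^ e') (hm.mul (Polynomial.monic_X_pow _))
    ⟨y, by rw [hρ]; exact hy⟩
  rw [hm.natDegree_mul (Polynomial.monic_X_pow _), Polynomial.natDegree_X_pow] at h2
  rw [coker_ver hk hint hinj hweil ρ hρ hAw hg] at h2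
  exact (not_le.2 (Nat.pow_lt_pow_right hp.out.one_lt hlt)) h2

variable (Ω) in
/-- The torsion points killed by a prime are cyclic for the Frobenius. -/
theorem cyclicTors_pts (l : ℕ) [hl : Fact l.Prime] : CyclicTors (ptsRepA Ω Aw (EndAV.End.of πw)) l := by
  haveI : IsAlgClosed Ω := IsAlgClosure.isAlgClosed k
  obtain ⟨g, hg⟩ := AVTors.exists_dimNat Aw
  obtain ⟨hfin, hle, -⟩ := AVTors.finite_torsPts_pt Ω Aw hg l hl.out.pos
  haveI := hfin
  let e : (nsmulAddMonoidHom l : Additive (SGA7.pt Ω ⟶ Aw) →+ _).ker ≃ AbDual.torsPts Aw l (SGA7.pt Ω) :=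
    { toFun := fun x => ⟨x.1.toMul, congrArg Additive.toMul x.2⟩
      invFun := fun x => ⟨Additive.ofMul x.1, congrArg Additive.ofMul x.2⟩
      left_inv := fun _ => rfl
      right_inv := fun _ => rfl }
  haveI := Finite.of_equiv _ e.symm
  refine cyclicTors_of_rep (ptsRepA Ω Aw) (EndAV.End.of πw) l fun m hm hd hkill => ?_
  rw [Nat.card_congr e] at hd
  have hkill' : ∀ x : SGA7.pt Ω ⟶ Aw, x ^ l = 1 → x ≫ (Polynomial.aeval (EndAV.End.of πw) m).toHom = 1 := fun x hx => by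
    have h0 := hkill (Additive.ofMul x) (congrArg Additive.ofMul hx)
    have h1 := congrArg Additive.toMul h0
    simp only [ptsRepA_apply, toMul_ofMul, toMul_zero] at h1
    convert h1 using 3
    simp only [Polynomial.aeval_def]
    congr 1
    exact RingHom.ext_int _ _
  by_cases hlp : l = p
  · subst hlp
    obtain ⟨hf, hs⟩ := isFinite_ver hk hint hinj hweil ρ hρ hAw
    haveI := hf
    haveI := AVTors.finite_kerPts (Ω := Ω) (EndAV.Hom.toHom (ver ρ : EndAV.Hom Aw Aw))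
    refine not_kill_of_eq hk hint hinj hweil ρ hρ hAw hg m hm (hd.trans_le ?_) hkill'
    refine Nat.card_le_card_of_injective (fun x => (⟨x.1 ≫ πw, ?_⟩ :
      AVTors.kerPts (EndAV.Hom.toHom (ver ρ : EndAV.Hom Aw Aw)) Ω)) fun a b h =>
        Subtype.ext ((frob_pts_bijective (Ω := Ω) hAw).1 (congrArg Subtype.val h))
    show (x.1 ≫ πw) ≫ (ver ρ).toHom = 1
    have e2 : πw ≫ (ver ρ).toHom = 𝟙 Aw ^ l := by
      rw [← EndAV.End.toHom_natCast, ← (ver_mul hint hweil ρ hρ).1, EndAV.End.toHom_mul, EndAV.End.toHom_of]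
    rw [Category.assoc, e2, MonObj.comp_pow, Category.comp_id]
    exact x.2
  · exact not_kill_of_ne hk hint hinj hweil ρ hρ hAw hg hlp m hm (hd.trans_le hle) hkill'

end Groth.Agent.AVTate.PrimeField
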