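import Mathlib.Algebra.Module.LocalizedModule.Basic
import Mathlib.RingTheory.Localization.AtPrime.Basic
import Mathlib.RingTheory.Finiteness.Basic
import Mathlib.Tactic.Ring

/-!
# Locally free modules of rank one
-/

set_option autoImplicit false
set_option linter.style.haveILetI false
set_option linter.unusedSectionVars false

noncomputable section

namespace Groth.Agent.AVTate.PrimeField

section Alg

variable {R M : Type*} [CommRing R] [AddCommGroup M] [Module R M]

/-- A module generated by one element near a prime, with small annihilator, is free of rank one there. -/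
theorem nonempty_equiv_of_generator (P : Ideal R) [P.IsPrime] (m₀ : M) (a : R) (ha : a ∉ P)
    (h1 : ∀ x : M, ∃ s : R, a • x = s • m₀) (h2 : ∀ s : R, s • m₀ = 0 → a * s = 0) :
    Nonempty (LocalizedModule P.primeCompl M ≃ₗ[Localization.AtPrime P] Localization.AtPrime P) := by
  let L : Localization.AtPrime P →ₗ[Localization.AtPrime P] LocalizedModule P.primeCompl M :=
    LinearMap.toSpanSingleton (Localization.AtPrime P) (LocalizedModule P.primeCompl M) (LocalizedModule.mk m₀ 1)
  refine ⟨(LinearEquiv.ofBijective L ⟨(injective_iff_map_eq_zero L).2 fun z hz => ?_, fun y => ?_⟩).symm⟩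
  · induction z using Localization.induction_on with
    | H q =>
      obtain ⟨s, t⟩ := q
      change (Localization.mk s t : Localization.AtPrime P) • (LocalizedModule.mk m₀ 1 : LocalizedModule P.primeCompl M) = 0 at hz
      rw [LocalizedModule.mk_smul_mk, ← LocalizedModule.zero_mk (1 : P.primeCompl), LocalizedModule.mk_eq] at hz
      obtain ⟨c, hc⟩ := hz
      simp only [smul_zero, Submonoid.smul_def, Submonoid.coe_one, one_smul] at hc
      rw [smul_smul] at hc
      rw [Localization.mk_eq_mk', IsLocalization.mk'_eq_zero_iff]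
      exact ⟨⟨a * c.1, P.primeCompl.mul_mem ha c.2⟩, by
        show a * c.1 * s = 0
        rw [mul_assoc]; exact h2 _ hc⟩
  · induction y using LocalizedModule.induction_on with
    | _ x t =>
      obtain ⟨s, hs⟩ := h1 x
      refine ⟨Localization.mk s (⟨a, ha⟩ * t), ?_⟩
      show (Localization.mk s (⟨a, ha⟩ * t) : Localization.AtPrime P) • (LocalizedModule.mk m₀ 1 : LocalizedModule P.primeCompl M) = LocalizedModule.mk x t
      rw [LocalizedModule.mk_smul_mk, LocalizedModule.mk_eq, ← hs]
      refine ⟨1, ?_⟩
      simp only [one_smul, mul_one, Submonoid.smul_def, Submonoid.coe_mul, smul_smul, mul_comm t.1 a]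

variable (hloc : ∀ (P : Ideal R) (_ : P.IsPrime),
  Nonempty (LocalizedModule P.primeCompl M ≃ₗ[Localization.AtPrime P] Localization.AtPrime P))

include hloc

/-- A locally free module of rank one is faithful. -/
theorem eq_zero_of_smul_eq_zero (r : R) (h : ∀ m : M, r • m = 0) : r = 0 := by
  by_contra hr
  let I : Ideal R :=
    { carrier := {c | c * r = 0}
      add_mem' := fun {a b} (ha : a * r = 0) (hb : b * r = 0) => show (a + b) * r = 0 by rw [add_mul, ha, hb, add_zero]
      zero_mem' := zero_mul r
      smul_mem' := fun a b (hb : b * r = 0) => show a * b * r = 0 by rw [mul_assoc, hb, mul_zero] }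
  obtain ⟨P, hP, hIP⟩ := Ideal.exists_le_maximal I fun h1 => hr (by
    have : (1 : R) * r = 0 := (h1 ▸ Submodule.mem_top : (1 : R) ∈ I)
    rwa [one_mul] at this)
  haveI := hP.isPrime
  obtain ⟨e⟩ := hloc P inferInstance
  obtain ⟨y, hy⟩ := e.surjective 1
  induction y using LocalizedModule.induction_on with
  | _ x t =>
    have h0 : (Localization.mk r 1 : Localization.AtPrime P) • (LocalizedModule.mk x t : LocalizedModule P.primeCompl M) = 0 := by
      rw [LocalizedModule.mk_smul_mk, h, LocalizedModule.zero_mk]
    have h1 := congrArg e h0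
    rw [map_smul, hy, map_zero, smul_eq_mul, mul_one, Localization.mk_eq_mk', IsLocalization.mk'_eq_zero_iff] at h1
    obtain ⟨c, hc⟩ := h1
    exact c.2 (hIP (show c.1 * r = 0 from hc))

/-- A linear endomorphism of a locally free module of rank one is a multiplication. -/
theorem exists_eq_smul [Module.Finite R M] (L : M →ₗ[R] M) : ∃ r : R, ∀ m, L m = r • m := by
  let I : Ideal R :=
    { carrier := {a : R | ∃ r : R, ∀ m, a • L m = r • m}
      add_mem' := by
        rintro a b ⟨r, hr⟩ ⟨r', hr'⟩
        exact ⟨r + r', fun m => by rw [add_smul, add_smul, hr, hr']⟩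
      zero_mem' := ⟨0, fun m => by rw [zero_smul, zero_smul]⟩
      smul_mem' := by
        rintro c a ⟨r, hr⟩
        exact ⟨c * r, fun m => by rw [smul_eq_mul, mul_smul, mul_smul, hr]⟩ }
  suffices h : I = ⊤ by
    obtain ⟨r, hr⟩ : (1 : R) ∈ I := h ▸ Submodule.mem_top
    exact ⟨r, fun m => by rw [← hr, one_smul]⟩
  by_contra hne
  obtain ⟨P, hP, hIP⟩ := Ideal.exists_le_maximal I hne
  haveI := hP.isPrime
  obtain ⟨e⟩ := hloc P inferInstance
  obtain ⟨y, hy⟩ := e.surjective 1
  induction y using LocalizedModule.induction_on with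
  | _ m₀ t =>
    have hx : ∀ x : M, ∃ a, a ∉ P ∧ ∃ s : R, a • x = s • m₀ := fun x => by
      obtain ⟨z, hz⟩ : ∃ z, z • LocalizedModule.mk m₀ t = LocalizedModule.mk x 1 :=
        ⟨e (LocalizedModule.mk x 1), e.injective (by rw [map_smul, hy, smul_eq_mul, mul_one])⟩
      induction z using Localization.induction_on with
      | H q =>
        obtain ⟨s, w⟩ := q
        rw [LocalizedModule.mk_smul_mk, LocalizedModule.mk_eq] at hz
        obtain ⟨c, hc⟩ := hz
        simp only [Submonoid.smul_def, Submonoid.coe_mul, Submonoid.coe_one, smul_smul, mul_one, one_mul] at hc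
        exact ⟨c.1 * (w.1 * t.1), P.primeCompl.mul_mem c.2 (P.primeCompl.mul_mem w.2 t.2), c.1 * s, hc.symm⟩
    obtain ⟨n, g, hg⟩ := Module.Finite.exists_fin (R := R) (M := M)
    choose a ha s hs using hx
    let A := ∏ i, a (g i)
    have hA : A ∉ P := P.primeCompl.prod_mem fun i _ => ha _
    have hall : ∀ x : M, ∃ s : R, A • x = s • m₀ := fun x => by
      have hx : x ∈ Submodule.span R (Set.range g) := hg ▸ Submodule.mem_top
      induction hx using Submodule.span_induction with
      | mem x hx =>
        obtain ⟨i, rfl⟩ := hx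
        classical
        refine ⟨(∏ j ∈ Finset.univ.erase i, a (g j)) * s (g i), ?_⟩
        rw [show A = (∏ j ∈ Finset.univ.erase i, a (g j)) * a (g i) from
          (Finset.prod_erase_mul _ _ (Finset.mem_univ i)).symm, mul_smul, hs, smul_smul]
      | zero => exact ⟨0, by rw [smul_zero, zero_smul]⟩
      | add x y _ _ hx hy =>
        obtain ⟨u, hu⟩ := hx
        obtain ⟨v, hv⟩ := hy
        exact ⟨u + v, by rw [smul_add, hu, hv, add_smul]⟩
      | smul c x _ hx =>
        obtain ⟨u, hu⟩ := hx
        exact ⟨c * u, by rw [smul_comm, hu, smul_smul]⟩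
    obtain ⟨r, hr⟩ := hall (L m₀)
    refine P.primeCompl.mul_mem hA hA (hIP ⟨A * r, fun x => ?_⟩)
    obtain ⟨u, hu⟩ := hall x
    calc (A * A) • L x = A • L (A • x) := by rw [map_smul, smul_smul]
      _ = u • A • L m₀ := by rw [hu, map_smul, smul_comm]
      _ = r • A • x := by rw [hr, smul_comm, ← hu]
      _ = (A * r) • x := by rw [smul_smul, mul_comm]

end Alg

end Groth.Agent.AVTate.PrimeField
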