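import Groth.Agent.AVTate.PrimeField.SubOrder
import Groth.Agent.AVTate.PrimeField.RankOneAlg

/-!
# Endomorphism ring the minimal central order and locally free modules of rank one
-/

set_option autoImplicit false
set_option linter.style.haveILetI false
set_option linter.unusedSectionVars false
set_option backward.isDefEq.respectTransparency false
set_option backward.isDefEq.respectTransparency.types false
set_option maxHeartbeats 2000000
set_option synthInstance.maxHeartbeats 400000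

universe u

open CategoryTheory AlgebraicGeometry MonoidalCategory CartesianMonoidalCategory MonObj

noncomputable section

namespace Groth.Agent.AVTate.PrimeField

open AVTate.MinOrder

variable {k : Type u} [Field k] [Finite k]

theorem isClosedImmersion_of_mono {B B' : Over (Spec (CommRingCat.of k))} [GrpObj B] [IsCommMonObj B]
    [IsProper B.hom] [GeometricallyIntegral B.hom] [GrpObj B'] [IsCommMonObj B'] [IsProper B'.hom]
    [GeometricallyIntegral B'.hom] (f : EndAV.Hom B B')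
    (hf : ∀ (T : Over (Spec (CommRingCat.of k))) (a b : T ⟶ B), a ≫ f.toHom = b ≫ f.toHom → a = b) :
    IsClosedImmersion f.toHom.left := by
  haveI : IsProper (f.toHom.left ≫ B'.hom) := by rw [Over.w f.toHom]; infer_instance
  haveI : IsProper f.toHom.left := IsProper.of_comp f.toHom.left B'.hom
  refine (IsClosedImmersion.iff_isProper_and_mono _).2 ⟨inferInstance, ⟨fun {T} a b hab => ?_⟩⟩
  have hw : a ≫ B.hom = b ≫ B.hom := by
    rw [← Over.w f.toHom]
    exact (reassoc_of% hab) B'.hom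
  let a' : Over.mk (a ≫ B.hom) ⟶ B := Over.homMk a
  let b' : Over.mk (a ≫ B.hom) ⟶ B := Over.homMk b hw.symm
  exact congrArg Over.Hom.left (hf _ a' b' (Over.OverMorphism.ext hab))

variable {p : ℕ} [hp : Fact p.Prime] (hk : Nat.card k = p)
  {J : Type} [Fintype J] {K : J → Type} [∀ j, Field (K j)]
  [∀ j, CharZero (K j)] {ϖ : ∀ j, K j} {Aw : Over (Spec (CommRingCat.of k))} [GrpObj Aw] [IsCommMonObj Aw]
  [IsProper Aw.hom] [GeometricallyIntegral Aw.hom] {πw : Aw ⟶ Aw} [IsMonHom πw]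
  (hint : ∀ j, IsIntegral ℤ (ϖ j)) (hinj : ∀ i j, minpoly ℤ (ϖ i) = minpoly ℤ (ϖ j) → i = j)
  (hweil : ∀ j, ∀ z ∈ (minpoly ℤ (ϖ j)).aroots ℂ, ‖z‖ = Real.sqrt p)
  (ρ : (gens p ϖ).range ≃+* EndAV.End Aw)
  (hρ : ρ ⟨gens p ϖ (MvPolynomial.X 0), AlgHom.mem_range_self _ _⟩ = EndAV.End.of πw) (hAw : IsFrob Aw πw)
  {A : Over (Spec (CommRingCat.of k))} [GrpObj A] [IsCommMonObj A] [IsProper A.hom] [GeometricallyIntegral A.hom]
  {πA : A ⟶ A} [IsMonHom πA] (hA : IsFrob A πA)

include hk hint hinj hweil hρ hAw hA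

theorem order_comm (ρA : (gens p ϖ).range ≃+* EndAV.End A)
    (hρA : ρA ⟨gens p ϖ (MvPolynomial.X 0), AlgHom.mem_range_self _ _⟩ = EndAV.End.of πA) (r : (gens p ϖ).range)
    (u : EndAV.Hom A Aw) : (ρA r : EndAV.Hom A A) ≫ u = u ≫ (ρ r : EndAV.Hom Aw Aw) := by
  obtain ⟨G, rfl⟩ := AlgHom.rangeRestrict_surjective (gens p ϖ) r
  induction G using MvPolynomial.induction_on generalizing u with
  | C z =>
    rw [show (gens p ϖ).rangeRestrict (MvPolynomial.C z) = (z : (gens p ϖ).range) from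
      Subtype.ext (by simp), map_intCast, map_intCast]
    refine EndAV.Hom.ext ?_
    show (z : EndAV.End A).toHom ≫ u.toHom = u.toHom ≫ (z : EndAV.End Aw).toHom
    rw [EndAV.End.toHom_intCast, EndAV.End.toHom_intCast, GrpObj.comp_zpow, GrpObj.zpow_comp, Category.id_comp,
      Category.comp_id]
  | add G₁ G₂ h₁ h₂ =>
    rw [map_add, map_add, map_add]
    exact (Preadditive.add_comp _ _ _ _ _ _).trans ((congrArg₂ (· + ·) (h₁ u) (h₂ u)).trans
      (Preadditive.comp_add _ _ _ _ _ _).symm)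
  | mul_X G₁ j h₁ =>
    have hg : ∀ v : EndAV.Hom A Aw,
        (ρA ((gens p ϖ).rangeRestrict (MvPolynomial.X j)) : EndAV.Hom A A) ≫ v =
          v ≫ (ρ ((gens p ϖ).rangeRestrict (MvPolynomial.X j)) : EndAV.Hom Aw Aw) := fun v => by
      obtain rfl | rfl : j = 0 ∨ j = 1 := by omega
      · rw [show (gens p ϖ).rangeRestrict (MvPolynomial.X 0) = ⟨gens p ϖ (MvPolynomial.X 0), AlgHom.mem_range_self _ _⟩
          from rfl, hρA, hρ]
        exact EndAV.Hom.ext (hA.natural hAw v.toHom)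
      · exact ver_natural hk hA hAw ((ver_mul hint hweil ρA hρA).1.trans (nsmul_one (A := EndAV.End A) p).symm)
          ((ver_mul hint hweil ρ hρ).1.trans (nsmul_one (A := EndAV.End Aw) p).symm) v
    rw [map_mul, map_mul, map_mul]
    show ((ρA ((gens p ϖ).rangeRestrict (MvPolynomial.X j)) : EndAV.Hom A A) ≫
      (ρA ((gens p ϖ).rangeRestrict G₁) : EndAV.Hom A A)) ≫ u =
      u ≫ (ρ ((gens p ϖ).rangeRestrict (MvPolynomial.X j)) : EndAV.Hom Aw Aw) ≫
        (ρ ((gens p ϖ).rangeRestrict G₁) : EndAV.Hom Aw Aw)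
    rw [Category.assoc, h₁, ← Category.assoc, hg, Category.assoc]

variable [Module (gens p ϖ).range (EndAV.Hom A Aw)]
  (hmod : ∀ (r : (gens p ϖ).range) (φ : EndAV.Hom A Aw), r • φ = φ ≫ (ρ r : EndAV.Hom Aw Aw))

include hmod

theorem locallyFree_of_end (ρA : (gens p ϖ).range ≃+* EndAV.End A)
    (hρA : ρA ⟨gens p ϖ (MvPolynomial.X 0), AlgHom.mem_range_self _ _⟩ = EndAV.End.of πA)
    (P : Ideal (gens p ϖ).range) (_ : P.IsPrime) :
    Nonempty (LocalizedModule P.primeCompl (EndAV.Hom A Aw) ≃ₗ[Localization.AtPrime P] Localization.AtPrime P) := by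
  classical
  obtain ⟨n, ψ, hψ⟩ := exists_monic hAw hk hint hinj hweil ρA hρA hA (aeval_pw ρ hρ)
  obtain ⟨Q, _, _, hQp, hQi, pr, inc, hsum, hd, ho⟩ := AVTors.AntiEquiv.exists_power A n
  haveI := hQp; haveI := hQi
  obtain ⟨πQ, _, hQ⟩ := exists_isFrob Q
  have hPQ : Polynomial.aeval (EndAV.End.of πQ) (Pw ϖ) = 0 := by
    show (show EndAV.Hom Q Q from Polynomial.aeval (EndAV.End.of πQ) (Pw ϖ)) = 0
    rw [← Category.comp_id (show EndAV.Hom Q Q from Polynomial.aeval (EndAV.End.of πQ) (Pw ϖ)), ← hsum,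
      Preadditive.comp_sum]
    refine Finset.sum_eq_zero fun i _ => EndAV.Hom.ext ?_
    rw [EndAV.Hom.toHom_comp, EndAV.Hom.toHom_comp, ← Category.assoc]
    show ((Polynomial.aeval (EndAV.End.of πQ) (Pw ϖ) : EndAV.End Q).toHom ≫ (pr i).toHom) ≫ (inc i).toHom = 1
    rw [aeval_natural hQ hA (pr i), aeval_pw ρA hρA, EndAV.End.toHom_zero, MonObj.comp_one, MonObj.one_comp]
  let Ψ : EndAV.Hom Aw Q := ∑ i, ψ i ≫ inc i
  have hΨ : ∀ i, Ψ ≫ pr i = ψ i := fun i => by
    rw [Preadditive.sum_comp]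
    refine (Finset.sum_eq_single i (fun j _ hji => ?_) (fun h => absurd (Finset.mem_univ i) h)).trans ?_
    · rw [Category.assoc, ho j i hji, Limits.comp_zero]
    · rw [Category.assoc, hd, Category.comp_id]
  haveI : IsClosedImmersion Ψ.toHom.left := isClosedImmersion_of_mono Ψ fun T a b h => hψ T a b fun i => by
    rw [← hΨ i, EndAV.Hom.toHom_comp, ← Category.assoc, h, Category.assoc]
  obtain ⟨g, hg⟩ := exists_extend hAw hQ hk hint hinj hweil ρ hρ hAw (aeval_pw ρ hρ) hPQ Ψ (𝟙 _)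
  have hone : ∑ i, ρ.symm (ψ i ≫ inc i ≫ g : EndAV.Hom Aw Aw) = 1 := by
    refine ρ.injective ?_
    rw [map_sum, map_one]
    simp only [RingEquiv.apply_symm_apply]
    show ∑ i, ψ i ≫ inc i ≫ g = 𝟙 _
    rw [← hg, Preadditive.sum_comp]
    simp only [Category.assoc]
  obtain ⟨i, hi⟩ : ∃ i, ρ.symm (ψ i ≫ inc i ≫ g : EndAV.Hom Aw Aw) ∉ P := by
    by_contra hc
    simp only [not_exists, not_not] at hc
    exact P.ne_top_iff_one.1 (Ideal.IsPrime.ne_top inferInstance) (hone ▸ P.sum_mem fun i _ => hc i)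
  refine nonempty_equiv_of_generator P (inc i ≫ g) _ hi (fun x => ⟨ρA.symm (x ≫ ψ i), ?_⟩) fun s hs => ?_
  · rw [hmod, hmod, RingEquiv.apply_symm_apply, ← order_comm hk hint hinj hweil ρ hρ hAw hA ρA hρA,
      RingEquiv.apply_symm_apply, Category.assoc]
  · rw [hmod] at hs
    refine ρ.injective ?_
    rw [map_zero, _root_.mul_comm, map_mul, RingEquiv.apply_symm_apply]
    show (ψ i ≫ inc i ≫ g) ≫ (ρ s : EndAV.Hom Aw Aw) = 0
    rw [Category.assoc, hs, Limits.comp_zero]

theorem end_of_locallyFree (hPA : Polynomial.aeval (EndAV.End.of πA) (Pw ϖ) = 0)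
    (hloc : ∀ (P : Ideal (gens p ϖ).range) (_ : P.IsPrime),
      Nonempty (LocalizedModule P.primeCompl (EndAV.Hom A Aw) ≃ₗ[Localization.AtPrime P] Localization.AtPrime P)) :
    ∃ ρA : (gens p ϖ).range ≃+* EndAV.End A,
      ρA ⟨gens p ϖ (MvPolynomial.X 0), AlgHom.mem_range_self _ _⟩ = EndAV.End.of πA := by
  obtain ⟨hfaith, hfull⟩ := fully_faithful hk hint hinj hweil ρ hρ hAw hA hPA hA hPA
  obtain ⟨g, hg⟩ := AVTors.exists_dimNat A
  obtain ⟨-, hfin, -⟩ := finrank_hom_eq hint hinj ρ hρ hAw hA hPA hg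
  haveI : Module.Finite (gens p ϖ).range (EndAV.Hom A Aw) := by
    obtain ⟨n, w, hw⟩ := Module.Finite.exists_fin (R := ℤ) (M := EndAV.Hom A Aw)
    refine ⟨⟨(Set.finite_range w).toFinset, eq_top_iff.2 fun x _ => ?_⟩⟩
    have hx : x ∈ Submodule.span ℤ (Set.range w) := hw ▸ Submodule.mem_top
    rw [Set.Finite.coe_toFinset]
    exact Submodule.span_le_restrictScalars ℤ (gens p ϖ).range (Set.range w) hx
  have hex : ∀ r, ∃ f : EndAV.Hom A A, ∀ φ : EndAV.Hom A Aw, r • φ = f ≫ φ := fun r =>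
    hfull (AddMonoidHom.mk' (fun φ => r • φ) (smul_add r)) fun φ s => by
      obtain ⟨r', rfl⟩ := ρ.surjective s
      simp only [AddMonoidHom.mk'_apply]
      rw [← hmod, ← hmod, smul_smul, smul_smul, _root_.mul_comm]
  choose f hf using hex
  have huniq : ∀ r (h : EndAV.Hom A A), (∀ φ : EndAV.Hom A Aw, r • φ = h ≫ φ) → f r = h := fun r h hh =>
    hfaith _ _ fun φ => (hf r φ).symm.trans (hh φ)
  let σ : (gens p ϖ).range →+* EndAV.End A :=
    { toFun := fun r => (f r : EndAV.End A)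
      map_one' := huniq 1 (𝟙 _) fun φ => by rw [one_smul, Category.id_comp]
      map_mul' := fun a b => huniq (a * b) (f b ≫ f a) fun φ => by
        rw [Category.assoc, ← hf, ← hf, smul_smul, _root_.mul_comm]
      map_zero' := huniq 0 0 fun φ => by rw [zero_smul, Limits.zero_comp]
      map_add' := fun a b => huniq (a + b) (f a + f b) fun φ => by
        rw [add_smul, Preadditive.add_comp, hf, hf] }
  have hσ : Function.Bijective σ := by
    refine ⟨(injective_iff_map_eq_zero σ).2 fun r hr => eq_zero_of_smul_eq_zero hloc r fun φ => ?_, fun h => ?_⟩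
    · rw [hf, show f r = 0 from hr, Limits.zero_comp]
    · let L : EndAV.Hom A Aw →ₗ[(gens p ϖ).range] EndAV.Hom A Aw :=
        { toFun := fun φ => (h : EndAV.Hom A A) ≫ φ
          map_add' := fun a b => Preadditive.comp_add _ _ _ _ _ _
          map_smul' := fun r φ => by
            rw [RingHom.id_apply, hmod, hmod, Category.assoc] }
      obtain ⟨r, hr⟩ := exists_eq_smul hloc L
      exact ⟨r, huniq r h fun φ => (hr φ).symm⟩
  refine ⟨RingEquiv.ofBijective σ hσ, huniq _ _ fun φ => ?_⟩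
  rw [hmod, hρ]
  exact (EndAV.Hom.ext (hA.natural hAw φ.toHom)).symm

end Groth.Agent.AVTate.PrimeField
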