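import Groth.Agent.AVTate.PrimeField.EndRing

/-!
# The subvariety attached to a subfamily of Weil numbers
-/

set_option autoImplicit false
set_option linter.style.haveILetI false
set_option linter.unusedSectionVars false
set_option backward.isDefEq.respectTransparency false
set_option backward.isDefEq.respectTransparency.types false
set_option maxHeartbeats 2000000
set_option synthInstance.maxHeartbeats 400000

universe u

open CategoryTheory AlgebraicGeometry MonoidalCategory CartesianMonoidalCategory MonObj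

noncomputable section

namespace Groth.Agent.AVTate.PrimeField

open AVTate.MinOrder

section Order

variable {p : ℕ} {J : Type} [Fintype J] {K : J → Type} [∀ j, Field (K j)] [∀ j, CharZero (K j)] {ϖ : ∀ j, K j}

theorem gen_mul_gen (hne : ∀ j, ϖ j ≠ 0) :
    (⟨gens p ϖ (MvPolynomial.X 1), AlgHom.mem_range_self _ _⟩ : (gens p ϖ).range) *
      ⟨gens p ϖ (MvPolynomial.X 0), AlgHom.mem_range_self _ _⟩ = (p : (gens p ϖ).range) :=
  Subtype.ext (funext fun j => by simp [gens, div_mul_cancel₀ _ (hne j)])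

/-- Every element of the order is a polynomial in the first generator up to a power of it. -/
theorem exists_mul_pow_eq (hne : ∀ j, ϖ j ≠ 0) (r : (gens p ϖ).range) :
    ∃ (N : ℕ) (q : Polynomial ℤ), r * ⟨gens p ϖ (MvPolynomial.X 0), AlgHom.mem_range_self _ _⟩ ^ N =
      Polynomial.aeval (⟨gens p ϖ (MvPolynomial.X 0), AlgHom.mem_range_self _ _⟩ : (gens p ϖ).range) q := by
  generalize hF : (⟨gens p ϖ (MvPolynomial.X 0), AlgHom.mem_range_self _ _⟩ : (gens p ϖ).range) = F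
  obtain ⟨G, rfl⟩ := AlgHom.rangeRestrict_surjective (gens p ϖ) r
  induction G using MvPolynomial.induction_on with
  | C z => exact ⟨0, Polynomial.C z, by simp⟩
  | add G₁ G₂ h₁ h₂ =>
    obtain ⟨N₁, q₁, e₁⟩ := h₁
    obtain ⟨N₂, q₂, e₂⟩ := h₂
    refine ⟨N₁ + N₂, q₁ * Polynomial.X ^ N₂ + q₂ * Polynomial.X ^ N₁, ?_⟩
    rw [map_add, map_add, map_mul, map_mul, ← e₁, ← e₂]
    simp only [map_pow, Polynomial.aeval_X]
    ring
  | mul_X G₁ j h₁ =>
    obtain ⟨N₁, q₁, e₁⟩ := h₁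
    obtain rfl | rfl : j = 0 ∨ j = 1 := by omega
    · refine ⟨N₁, q₁ * Polynomial.X, ?_⟩
      rw [map_mul, map_mul, ← e₁, Polynomial.aeval_X, ← hF]
      rw [show (gens p ϖ).rangeRestrict (MvPolynomial.X 0) = ⟨gens p ϖ (MvPolynomial.X 0), AlgHom.mem_range_self _ _⟩
        from rfl]
      ring
    · refine ⟨N₁ + 1, q₁ * Polynomial.C (p : ℤ), ?_⟩
      have h : (gens p ϖ).rangeRestrict (MvPolynomial.X 1) * F = (p : (gens p ϖ).range) := hF ▸ gen_mul_gen hne
      rw [map_mul, map_mul, ← e₁, Polynomial.aeval_C, map_natCast, ← h, pow_succ]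
      ring

variable {J' : Type} [Fintype J'] (emb : J' → J)

/-- The restriction to a subfamily. -/
theorem exists_restrict :
    ∃ φ : (gens p ϖ).range →+* (gens p fun j' => ϖ (emb j')).range, Function.Surjective φ ∧
      φ ⟨gens p ϖ (MvPolynomial.X 0), AlgHom.mem_range_self _ _⟩ =
        ⟨gens p (fun j' => ϖ (emb j')) (MvPolynomial.X 0), AlgHom.mem_range_self _ _⟩ ∧
      ∀ r j', (φ r : (j' : J') → K (emb j')) j' = r.1 (emb j') := by
  let π : ((j : J) → K j) →ₐ[ℤ] ((j' : J') → K (emb j')) :=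
    AlgHom.ofLinearMap (LinearMap.pi fun j' => LinearMap.proj (emb j')) rfl fun _ _ => rfl
  have hπ : π.comp (gens p ϖ) = gens p fun j' => ϖ (emb j') := MvPolynomial.algHom_ext fun i => by
    fin_cases i <;> funext j' <;> simp [π, gens]
  let φ : (gens p ϖ).range →ₐ[ℤ] (gens p fun j' => ϖ (emb j')).range :=
    (π.comp (gens p ϖ).range.val).codRestrict _ fun r => by
      obtain ⟨_, G, rfl⟩ := r
      exact ⟨G, (AlgHom.congr_fun hπ G).symm⟩
  refine ⟨φ.toRingHom, fun s => ?_, Subtype.ext (AlgHom.congr_fun hπ _), fun _ _ => rfl⟩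
  obtain ⟨_, G, rfl⟩ := s
  exact ⟨⟨gens p ϖ G, AlgHom.mem_range_self _ _⟩, Subtype.ext (AlgHom.congr_fun hπ G)⟩

variable (hint : ∀ j, IsIntegral ℤ (ϖ j)) (hinj : ∀ i j, minpoly ℤ (ϖ i) = minpoly ℤ (ϖ j) → i = j)
  (hemb : Function.Injective emb)

include hemb in
omit [∀ j, CharZero (K j)] in
theorem pv_dvd_pw : (Pw fun j' => ϖ (emb j')) ∣ Pw ϖ := by
  classical
  show ∏ j', minpoly ℤ (ϖ (emb j')) ∣ _
  exact (Finset.prod_map Finset.univ ⟨emb, hemb⟩ fun j => minpoly ℤ (ϖ j)).symm.dvd.trans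
    (Finset.prod_dvd_prod_of_subset _ _ _ (Finset.subset_univ _))

include hint hinj hemb in
/-- A polynomial vanishing on the subfamily is divisible by the product of its minimal polynomials. -/
theorem pv_dvd {q : Polynomial ℤ} (h : ∀ j', Polynomial.aeval (ϖ (emb j')) q = 0) :
    (Pw fun j' => ϖ (emb j')) ∣ q :=
  (Polynomial.map_dvd_map _ (RingHom.injective_int _) (pw_monic fun _ => hint _)).1
    (MinOrder.pw_dvd (fun _ => hint _) (fun _ _ e => hemb (hinj _ _ e)) h)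

end Order

variable {k : Type u} [Field k] [Finite k]

theorem eq_one_of_frob_pow_comp {B Z : Over (Spec (CommRingCat.of k))} [GrpObj B] [IsCommMonObj B] [IsProper B.hom]
    [GeometricallyIntegral B.hom] [GrpObj Z] [IsCommMonObj Z] [IsProper Z.hom] [GeometricallyIntegral Z.hom]
    {π : B ⟶ B} [IsMonHom π] (hπ : IsFrob B π) :
    ∀ (n : ℕ) (a : B ⟶ Z), (EndAV.End.of π ^ n).toHom ≫ a = 1 → a = 1 := by
  intro n
  induction n with
  | zero => intro a h; simpa using h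
  | succ n ih =>
    intro a h
    rw [EndAV.End.toHom_pow_succ, Category.assoc] at h
    obtain ⟨h1, h2⟩ := AVTors.Verschiebung.isFinite_left π hπ.1
    haveI : IsFinite (EndAV.Hom.of π).toHom.left := h1
    haveI : Surjective (EndAV.Hom.of π).toHom.left := h2
    haveI : Epi π := epi_isog (EndAV.Hom.of π)
    exact (cancel_epi π).1 ((ih _ h).trans (MonObj.comp_one π).symm)

variable {p : ℕ} [hp : Fact p.Prime] (hk : Nat.card k = p)
  {J : Type} [Fintype J] {K : J → Type} [∀ j, Field (K j)]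
  [∀ j, CharZero (K j)] {ϖ : ∀ j, K j} {Aw : Over (Spec (CommRingCat.of k))} [GrpObj Aw] [IsCommMonObj Aw]
  [IsProper Aw.hom] [GeometricallyIntegral Aw.hom] {πw : Aw ⟶ Aw} [IsMonHom πw]
  (hint : ∀ j, IsIntegral ℤ (ϖ j)) (hinj : ∀ i j, minpoly ℤ (ϖ i) = minpoly ℤ (ϖ j) → i = j)
  (hweil : ∀ j, ∀ z ∈ (minpoly ℤ (ϖ j)).aroots ℂ, ‖z‖ = Real.sqrt p)
  (ρ : (gens p ϖ).range ≃+* EndAV.End Aw)
  (hρ : ρ ⟨gens p ϖ (MvPolynomial.X 0), AlgHom.mem_range_self _ _⟩ = EndAV.End.of πw) (hAw : IsFrob Aw πw)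
  {J' : Type} [Fintype J'] (emb : J' → J) (hemb : Function.Injective emb)

include hk hint hinj hweil hρ hAw hemb

/-- The universal variety with support in a subfamily. -/
theorem exists_sub :
    ∃ (B : Over (Spec (CommRingCat.of k))) (_ : GrpObj B) (_ : IsCommMonObj B) (_ : IsProper B.hom)
      (_ : GeometricallyIntegral B.hom) (πB : B ⟶ B) (_ : IsMonHom πB) (_ : IsFrob B πB)
      (_ : Polynomial.aeval (EndAV.End.of πB) (Pw fun j' => ϖ (emb j')) = 0) (θ : EndAV.Hom B Aw)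
      (σ : (gens p fun j' => ϖ (emb j')).range ≃+* EndAV.End B),
      IsClosedImmersion θ.toHom.left ∧
        σ ⟨gens p (fun j' => ϖ (emb j')) (MvPolynomial.X 0), AlgHom.mem_range_self _ _⟩ = EndAV.End.of πB ∧
        ∀ (B' : Over (Spec (CommRingCat.of k))) [GrpObj B'] [IsCommMonObj B'] [IsProper B'.hom]
          [GeometricallyIntegral B'.hom] (π' : B' ⟶ B') [IsMonHom π'], IsFrob B' π' →
          Polynomial.aeval (EndAV.End.of π') (Pw fun j' => ϖ (emb j')) = 0 →
          ∀ f : EndAV.Hom B' Aw, ∃ h : EndAV.Hom B' B, h ≫ θ = f := by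
  obtain ⟨φ, hφ, hφF, hφv⟩ := exists_restrict (p := p) (ϖ := ϖ) emb
  let S := (gens p fun j' => ϖ (emb j')).range
  obtain ⟨g, hg⟩ := AVTors.exists_dimNat Aw
  obtain ⟨-, hfinw, -⟩ := finrank_hom_eq hint hinj ρ hρ hAw hAw (aeval_pw ρ hρ) hg
  haveI : Module.Finite ℤ (EndAV.End Aw) := hfinw
  haveI : Module.Finite ℤ (gens p ϖ).range := Module.Finite.equiv ρ.symm.toAddEquiv.toIntLinearEquiv
  haveI : Module.Finite ℤ S := Module.Finite.of_surjective φ.toAddMonoidHom.toIntLinearMap hφ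
  haveI : Module.IsTorsionFree ℤ S := Function.Injective.moduleIsTorsionFree (Subalgebra.val S) Subtype.val_injective
    (fun c x => map_zsmul (Subalgebra.val S) c x)
  obtain ⟨B, _, _, hBp, hBi, πB, _, hB, hPB, σ, e, hσ, he⟩ :=
    exists_endRing hk hint hinj hweil ρ hρ hAw S φ fun L hL x => by
      obtain ⟨r, rfl⟩ := hφ x
      rw [← _root_.mul_one (φ r), hL, _root_.mul_one, _root_.mul_comm]
  haveI := hBp; haveI := hBi
  rw [hφF] at hσ
  have hPv : Polynomial.aeval (EndAV.End.of πB) (Pw fun j' => ϖ (emb j')) = 0 := by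
    rw [aeval_frob σ hσ, aeval_gen_eq_zero.2 fun j' => ?_, map_zero]
    rw [map_prod]
    exact Finset.prod_eq_zero (Finset.mem_univ j') (minpoly.aeval _ _)
  let θ : EndAV.Hom B Aw := e 1
  have hθ : ∀ r, θ ≫ (ρ r : EndAV.Hom Aw Aw) = e (φ r) := fun r => by rw [← he, _root_.mul_one]
  have hθs : ∀ ψ, ∃ r, θ ≫ (ρ r : EndAV.Hom Aw Aw) = ψ := fun ψ => by
    obtain ⟨r, hr⟩ := hφ (e.symm ψ)
    exact ⟨r, by rw [hθ, hr, AddEquiv.apply_symm_apply]⟩
  have hci : IsClosedImmersion θ.toHom.left :=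
    isClosedImmersion_of_surjective hk hint hinj hweil ρ hρ hAw hB hPB θ fun ψ =>
      ⟨_, (hθs ψ).choose_spec⟩
  refine ⟨B, inferInstance, inferInstance, hBp, hBi, πB, inferInstance, hB, hPv, θ, σ, hci, hσ,
    fun B' _ _ _ _ π' _ hπ' hP' f => ?_⟩
  have hP'w : Polynomial.aeval (EndAV.End.of π') (Pw ϖ) = 0 := by
    obtain ⟨c, hc⟩ := pv_dvd_pw (ϖ := ϖ) emb hemb
    rw [hc, map_mul, hP', zero_mul]
  have hkill : ∀ r, φ r = 0 → f ≫ (ρ r : EndAV.Hom Aw Aw) = 0 := fun r hr => by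
    obtain ⟨N, q, hq⟩ := exists_mul_pow_eq (ne_zero_of_weil hp.out.pos hint hweil) r
    have hq0 : Polynomial.aeval (EndAV.End.of π') q = 0 := by
      obtain ⟨c, hc⟩ := pv_dvd emb hint hinj hemb (q := q) fun j' => by
        have h := congrArg (fun s : (gens p ϖ).range => s.1 (emb j')) hq
        have h0 : r.1 (emb j') = 0 := (hφv r j').symm.trans (by rw [hr]; rfl)
        have e2 : (Polynomial.aeval (⟨gens p ϖ (MvPolynomial.X 0), AlgHom.mem_range_self _ _⟩ : (gens p ϖ).range) q).1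
            (emb j') = Polynomial.aeval (ϖ (emb j')) q := by
          rw [← Subalgebra.coe_val, ← Polynomial.aeval_algHom_apply]
          rw [show Polynomial.aeval ((gens p ϖ).range.val ⟨gens p ϖ (MvPolynomial.X 0), AlgHom.mem_range_self _ _⟩) q
            (emb j') = Polynomial.aeval (gens p ϖ (MvPolynomial.X 0) (emb j')) q from
            (Polynomial.aeval_algHom_apply (Pi.evalAlgHom ℤ K (emb j')) _ q).symm]
          simp [gens]
        simp only [Subalgebra.coe_mul, Pi.mul_apply, h0, zero_mul, e2] at h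
        exact h.symm
      rw [hc, map_mul, hP', zero_mul]
    let u : EndAV.Hom B' Aw := f ≫ (ρ r : EndAV.Hom Aw Aw)
    refine EndAV.Hom.ext (eq_one_of_frob_pow_comp hπ' N u.toHom ?_)
    rw [natural_pow hπ' hAw u.toHom N, EndAV.Hom.toHom_comp, Category.assoc, ← hρ, ← map_pow]
    show f.toHom ≫ (ρ r : EndAV.End Aw).toHom ≫ (ρ (_ ^ N) : EndAV.End Aw).toHom = 1
    rw [← EndAV.End.toHom_mul, ← map_mul, _root_.mul_comm, hq, ← aeval_frob ρ hρ, ← aeval_natural hπ' hAw f q, hq0,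
      EndAV.End.toHom_zero, MonObj.one_comp]
  let E : (gens p ϖ).range →+ EndAV.Hom B Aw :=
    AddMonoidHom.mk' (fun r => θ ≫ (ρ r : EndAV.Hom Aw Aw)) fun a b => by
      rw [map_add]; exact Preadditive.comp_add _ _ _ _ _ _
  let G₀ : (gens p ϖ).range →+ EndAV.Hom B' Aw :=
    AddMonoidHom.mk' (fun r => f ≫ (ρ r : EndAV.Hom Aw Aw)) fun a b => by
      rw [map_add]; exact Preadditive.comp_add _ _ _ _ _ _
  choose sec hsec using hθs
  have hG : ∀ r, G₀ (sec (E r)) = G₀ r := fun r => by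
    rw [← sub_eq_zero, ← map_sub]
    refine hkill _ (e.injective ?_)
    rw [map_sub, map_sub, map_zero, ← hθ, ← hθ, sub_eq_zero]
    exact hsec _
  let G : EndAV.Hom B Aw →+ EndAV.Hom B' Aw :=
    AddMonoidHom.mk' (fun ψ => G₀ (sec ψ)) fun a b => by
      rw [← map_add, ← hG (sec a + sec b)]
      congr 2
      rw [map_add]
      exact (congrArg₂ (· + ·) (hsec a) (hsec b)).symm
  obtain ⟨h, hh⟩ := (fully_faithful hk hint hinj hweil ρ hρ hAw hπ' hP'w hB hPB).2 G fun ψ s => by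
    obtain ⟨r, rfl⟩ := ρ.surjective s
    have e1 : ψ ≫ (ρ r : EndAV.Hom Aw Aw) = E (r * sec ψ) := by
      show _ = θ ≫ (ρ (r * sec ψ) : EndAV.Hom Aw Aw)
      conv_lhs => rw [← hsec ψ]
      rw [map_mul, Category.assoc]
      rfl
    show G₀ (sec (ψ ≫ (ρ r : EndAV.Hom Aw Aw))) = G₀ (sec ψ) ≫ (ρ r : EndAV.Hom Aw Aw)
    rw [e1, hG]
    show f ≫ (ρ (r * sec ψ) : EndAV.Hom Aw Aw) = (f ≫ (ρ (sec ψ) : EndAV.Hom Aw Aw)) ≫ (ρ r : EndAV.Hom Aw Aw)
    rw [map_mul, Category.assoc]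
    rfl
  refine ⟨h, ?_⟩
  rw [← hh]
  show G₀ (sec θ) = f
  have e1 : θ = E 1 := by
    show θ = θ ≫ (ρ 1 : EndAV.Hom Aw Aw)
    rw [map_one]
    exact (Category.comp_id θ).symm
  rw [e1, hG]
  show f ≫ (ρ 1 : EndAV.Hom Aw Aw) = f
  rw [map_one]
  exact Category.comp_id f

end Groth.Agent.AVTate.PrimeField
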